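import Groth.Agent.EtZarLib.Flasque
import Groth.Agent.QCohLib.AbCoh
import Groth.Prelude.Def_CohTop

/-!
# Raising the universe does not change Zariski cohomology
-/

set_option autoImplicit false
set_option linter.unusedSectionVars false
set_option linter.style.haveILetI false
set_option backward.isDefEq.respectTransparency false
set_option backward.isDefEq.respectTransparency.types false
set_option maxHeartbeats 1000000

universe u

open CategoryTheory CategoryTheory.Limits CategoryTheory.Abelian AlgebraicGeometry Opposite TopologicalSpace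

noncomputable section

namespace EtZarLib

variable (X : Scheme.{u})

/-- Sheaves with values raised one universe. -/
def up : CohTop.Ab X.toTopCat ⥤ EtZar.Ab X :=
  sheafCompose (Opens.grothendieckTopology X) AddCommGrpCat.uliftFunctor.{u + 1, u}

variable {X}

theorem preservesFiniteLimits_up : PreservesFiniteLimits (up X) := ⟨fun J _ _ =>
  haveI : PreservesLimitsOfShape J (up X ⋙ sheafToPresheaf _ _) :=
    inferInstanceAs (PreservesLimitsOfShape J (sheafToPresheaf _ _ ⋙ (Functor.whiskeringRight _ _ _).obj _))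
  preservesLimitsOfShape_of_reflects_of_preserves (up X) (sheafToPresheaf _ _)⟩

theorem epi_up {F G : CohTop.Ab X.toTopCat} (g : F ⟶ G) [Epi g] : Epi ((up X).map g) := by
  suffices h : Sheaf.IsLocallySurjective ((up X).map g) from Sheaf.epi_of_isLocallySurjective _
  refine ⟨fun {U} y x hx => ?_⟩
  obtain ⟨W, i, ⟨t, ht⟩, hxW⟩ := ((Sheaf.isLocallySurjective_iff_epi' (φ := g)).2 ‹_›).1 y.down x hx
  exact ⟨W, i, ⟨ULift.up t, ULift.ext _ _ ht⟩, hxW⟩

theorem flasque_up (I : CohTop.Ab X.toTopCat) [Injective I] : Flasque ((up X).obj I) := fun {V U} h s => by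
  haveI := QCohLib.isFlasque_of_injective (X := X.toTopCat) I
  obtain ⟨t, ht⟩ := (AddCommGrpCat.epi_iff_surjective _).1
    (TopCat.Presheaf.IsFlasque.epi (F := (I : TopCat.Sheaf AddCommGrpCat X.toTopCat).obj) (homOfLE h).op) s.down
  exact ⟨ULift.up t, ULift.ext _ _ ht⟩

/-- Global sections. -/
def topTerminal (X : Scheme.{u}) : IsTerminal (⊤ : X.Opens) :=
  IsTerminal.ofUniqueHom (fun _ => homOfLE le_top) fun _ _ => Subsingleton.elim _ _

/-- Comparison in degree zero. -/
def u0 (F : CohTop.Ab X.toTopCat) : CohTop.H F 0 ≃+ EtZar.H ((up X).obj F) 0 :=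
  (Sheaf.H.equiv₀ F (topTerminal X)).trans
    (AddEquiv.ulift.symm.trans (Sheaf.H.equiv₀ ((up X).obj F) (topTerminal X)).symm)

theorem u0_nat {F F' : CohTop.Ab X.toTopCat} (g : F ⟶ F') (x : CohTop.H F 0) :
    u0 F' (Sheaf.H.map g 0 x) = Sheaf.H.map ((up X).map g) 0 (u0 F x) := by
  show (Sheaf.H.equiv₀ _ _).symm _ = Sheaf.H.map _ 0 ((Sheaf.H.equiv₀ _ _).symm _)
  rw [Sheaf.H.equiv₀_symm_naturality]
  refine congrArg _ ?_
  show ULift.up (Sheaf.H.equiv₀ F' (topTerminal X) (Sheaf.H.map g 0 x)) = _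
  rw [← Sheaf.H.equiv₀_naturality]
  rfl

theorem addEquiv_of_surjections.{a, b, c, d} {B : Type a} {B' : Type b} {C : Type c} {C' : Type d} [AddCommGroup B]
    [AddCommGroup B'] [AddCommGroup C] [AddCommGroup C'] (e : B ≃+ B') (f : B →+ C) (f' : B' →+ C')
    (hf : Function.Surjective f) (hf' : Function.Surjective f')
    (h : ∀ x, f x = 0 ↔ f' (e x) = 0) : Nonempty (C ≃+ C') := by
  have hk : f.ker = (f'.comp e.toAddMonoidHom).ker := by ext x; exact h x
  exact ⟨((QuotientAddGroup.quotientKerEquivOfSurjective f hf).symm.trans (QuotientAddGroup.quotientAddEquivOfEq hk)).trans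
    (QuotientAddGroup.quotientKerEquivOfSurjective _ (hf'.comp e.surjective))⟩

/-- Raising the universe does not change cohomology. -/
theorem nonempty_up_equiv : ∀ (i : ℕ) (F : CohTop.Ab X.toTopCat),
    Nonempty (CohTop.H F i ≃+ EtZar.H ((up X).obj F) i) := by
  intro i
  induction i with
  | zero => exact fun F => ⟨u0 F⟩
  | succ i ih =>
    intro F
    haveI := preservesFiniteLimits_up (X := X)
    haveI : (up X).Additive := Functor.additive_of_preserves_binary_products _
    let S := QCohLib.injSeq F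
    have hS : S.ShortExact := QCohLib.injSeq_shortExact F
    let P := S.map (up X)
    have hP : P.ShortExact := by
      haveI := hS.mono_f; haveI := hS.epi_g
      haveI : Mono P.f := (up X).map_mono S.f
      haveI : Epi P.g := epi_up S.g
      have hex : P.Exact := ShortComplex.exact_of_f_is_kernel P
        ((KernelFork.isLimitMapConeEquiv _ (up X)) (isLimitOfPreserves (up X) hS.fIsKernel))
      exact { exact := hex }
    let ZE := (constantSheaf (Opens.grothendieckTopology X) AddCommGrpCat.{u}).obj (AddCommGrpCat.of (ULift.{u} ℤ))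
    let ZP := (constantSheaf (Opens.grothendieckTopology X) AddCommGrpCat.{u + 1}).obj (AddCommGrpCat.of (ULift.{u + 1} ℤ))
    let cE : ∀ n : ℕ, Ext.{u} ZE S.X₃ n →+ Ext.{u} ZE S.X₁ (n + 1) := fun n => hS.extClass.postcomp ZE rfl
    let cP : ∀ n : ℕ, Ext.{u + 1} ZP P.X₃ n →+ Ext.{u + 1} ZP P.X₁ (n + 1) := fun n => hP.extClass.postcomp ZP rfl
    haveI : Injective S.X₂ := inferInstanceAs (Injective (Injective.under F))
    have vP : ∀ (n : ℕ) (x : Ext.{u + 1} ZP P.X₂ (n + 1)), x = 0 := fun n x =>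
      haveI := subsingleton_H_flasque n _ (flasque_up S.X₂)
      Subsingleton.elim (α := EtZar.H ((up X).obj S.X₂) (n + 1)) _ _
    have sE : ∀ n, Function.Surjective (cE n) := fun n x => by
      obtain ⟨y, hy⟩ := Ext.covariant_sequence_exact₁ ZE hS x (Ext.eq_zero_of_injective _) (n₀ := n) rfl
      exact ⟨y, hy⟩
    have sP : ∀ n, Function.Surjective (cP n) := fun n x => by
      obtain ⟨y, hy⟩ := Ext.covariant_sequence_exact₁ ZP hP x (vP n _) (n₀ := n) rfl
      exact ⟨y, hy⟩
    cases i with
    | zero =>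
      refine addEquiv_of_surjections (u0 S.X₃) (cE 0) (cP 0) (sE 0) (sP 0) fun b => ⟨fun hb => ?_, fun hb => ?_⟩
      · obtain ⟨y, rfl⟩ := Ext.covariant_sequence_exact₃ ZE hS b (n₁ := 1) rfl hb
        show Ext.comp (u0 S.X₃ (Sheaf.H.map S.g 0 y)) hP.extClass rfl = 0
        rw [u0_nat]
        show (Ext.comp (u0 S.X₂ y) (Ext.mk₀ P.g) (add_zero 0)).comp hP.extClass rfl = 0
        rw [Ext.comp_assoc_of_second_deg_zero, hP.comp_extClass, Ext.comp_zero]
      · obtain ⟨y, hy⟩ := Ext.covariant_sequence_exact₃ ZP hP (u0 S.X₃ b) (n₁ := 1) rfl hb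
        have hb' : b = Sheaf.H.map S.g 0 ((u0 S.X₂).symm y) := (u0 S.X₃).injective (by
          rw [u0_nat, AddEquiv.apply_symm_apply]
          exact hy.symm)
        rw [hb']
        show (Ext.comp ((u0 S.X₂).symm y) (Ext.mk₀ S.g) (add_zero 0)).comp hS.extClass rfl = 0
        rw [Ext.comp_assoc_of_second_deg_zero, hS.comp_extClass, Ext.comp_zero]
    | succ j =>
      obtain ⟨e⟩ := ih S.X₃
      refine addEquiv_of_surjections e (cE (j + 1)) (cP (j + 1)) (sE _) (sP _) fun b => ⟨fun hb => ?_, fun hb => ?_⟩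
      · obtain ⟨y, rfl⟩ := Ext.covariant_sequence_exact₃ ZE hS b (n₁ := j + 1 + 1) rfl hb
        rw [Ext.eq_zero_of_injective y, Ext.zero_comp]
        show cP (j + 1) (e 0) = 0
        rw [map_zero, map_zero]
      · obtain ⟨y, hy⟩ := Ext.covariant_sequence_exact₃ ZP hP (e b) (n₁ := j + 1 + 1) rfl hb
        rw [vP j y, Ext.zero_comp] at hy
        have hb' : b = 0 := e.injective (hy.symm.trans (map_zero e).symm)
        rw [hb']
        exact map_zero (cE (j + 1))

end EtZarLib
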