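import Groth.Agent.EtZarLib.Ga

/-!
# Naturality of the comparison of étale and Zariski cohomology
-/

set_option autoImplicit false
set_option linter.unusedSectionVars false
set_option linter.style.haveILetI false
set_option backward.isDefEq.respectTransparency false
set_option backward.isDefEq.respectTransparency.types false
set_option maxHeartbeats 1000000

universe u

open CategoryTheory CategoryTheory.Limits CategoryTheory.Abelian AlgebraicGeometry Opposite TopologicalSpace
open Groth.Agent.EtShLib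

noncomputable section

namespace EtZarLib

theorem exists_addEquiv_of_surjections.{a, b, c, d} {B : Type a} {B' : Type b} {C : Type c} {C' : Type d} [AddCommGroup B]
    [AddCommGroup B'] [AddCommGroup C] [AddCommGroup C'] (e : B ≃+ B') (f : B →+ C) (f' : B' →+ C')
    (hf : Function.Surjective f) (hf' : Function.Surjective f')
    (h : ∀ x, f x = 0 ↔ f' (e x) = 0) : ∃ g : C ≃+ C', ∀ x, g (f x) = f' (e x) := by
  have hk : f.ker = (f'.comp e.toAddMonoidHom).ker := by ext x; exact h x
  refine ⟨((QuotientAddGroup.quotientKerEquivOfSurjective f hf).symm.trans (QuotientAddGroup.quotientAddEquivOfEq hk)).trans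
    (QuotientAddGroup.quotientKerEquivOfSurjective _ (hf'.comp e.surjective)), fun x => ?_⟩
  have h1 : (QuotientAddGroup.quotientKerEquivOfSurjective f hf).symm (f x) = QuotientAddGroup.mk x :=
    (QuotientAddGroup.quotientKerEquivOfSurjective f hf).injective (by rw [AddEquiv.apply_symm_apply]; rfl)
  simp only [AddEquiv.trans_apply, h1]
  rfl

theorem exists_hom_of_injective {C : Type*} [Category C] [Abelian C] {S S' : ShortComplex C} (hS : S.ShortExact)
    (hS' : S'.ShortExact) [Injective S'.X₂] (φ : S.X₁ ⟶ S'.X₁) : ∃ ψ : S ⟶ S', ψ.τ₁ = φ := by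
  haveI := hS.mono_f; haveI := hS.epi_g
  obtain ⟨τ₃, h3⟩ : ∃ τ₃ : S.X₃ ⟶ S'.X₃, S.g ≫ τ₃ = Injective.factorThru (φ ≫ S'.f) S.f ≫ S'.g :=
    ⟨_, hS.exact.g_desc _ (by rw [← Category.assoc, Injective.comp_factorThru, Category.assoc, S'.zero, comp_zero])⟩
  exact ⟨⟨φ, Injective.factorThru (φ ≫ S'.f) S.f, τ₃, (Injective.comp_factorThru _ _).symm, h3.symm⟩, rfl⟩

variable {X : Scheme.{u}} [EtZar.ZarCont X]

/-- Étale cohomology of affine-acyclic sheaves is Zariski cohomology, naturally. -/
theorem exists_H_equiv : ∀ i : ℕ, ∃ e : ∀ F : EtCoh.Ab X, CechAcyclicA F → (EtCoh.H X F i ≃+ EtZar.H ((EtZar.resZar X).obj F) i),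
    ∀ (F F' : EtCoh.Ab X) (hF : CechAcyclicA F) (hF' : CechAcyclicA F') (φ : F ⟶ F') (x : EtCoh.H X F i),
      e F' hF' (Sheaf.H.map φ i x) = Sheaf.H.map ((EtZar.resZar X).map φ) i (e F hF x) := by
  intro i
  induction i with
  | zero => exact ⟨fun F _ => e0 F, fun F F' _ _ φ x => e0_nat φ x⟩
  | succ i ih =>
    obtain ⟨e', he'⟩ := ih
    have key : ∀ (F : EtCoh.Ab X) (hF : CechAcyclicA F), ∃ g : EtCoh.H X F (i + 1) ≃+ EtZar.H ((EtZar.resZar X).obj F) (i + 1),
        ∀ b : EtCoh.H X (CohLib.injSC F).X₃ i,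
          g (Ext.comp b (CohLib.injSC_shortExact F).extClass rfl) =
            haveI : (EtZar.resZar X).Additive := { }
            Ext.comp (e' _ (cechAcyclicA_quotient (CohLib.injSC_shortExact F) hF) b)
              (shortExact_resZar (CohLib.injSC_shortExact F) hF).extClass rfl := by
      intro F hF
      haveI : (EtZar.resZar X).Additive := { }
      let S := CohLib.injSC F
      have hS : S.ShortExact := CohLib.injSC_shortExact F
      let P := S.map (EtZar.resZar X)
      have hP : P.ShortExact := shortExact_resZar hS hF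
      let ZE := (constantSheaf X.smallEtaleTopology AddCommGrpCat.{u + 1}).obj (AddCommGrpCat.of (ULift.{u + 1} ℤ))
      let ZP := (constantSheaf (Opens.grothendieckTopology X) AddCommGrpCat.{u + 1}).obj (AddCommGrpCat.of (ULift.{u + 1} ℤ))
      let cE : ∀ n : ℕ, Ext.{u + 1} ZE S.X₃ n →+ Ext.{u + 1} ZE S.X₁ (n + 1) := fun n => hS.extClass.postcomp ZE rfl
      let cP : ∀ n : ℕ, Ext.{u + 1} ZP P.X₃ n →+ Ext.{u + 1} ZP P.X₁ (n + 1) := fun n => hP.extClass.postcomp ZP rfl
      haveI : Injective S.X₂ := inferInstanceAs (Injective (Injective.under F))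
      haveI : Injective P.X₂ := injective_resZar S.X₂
      have sE : ∀ n, Function.Surjective (cE n) := fun n x => by
        obtain ⟨y, hy⟩ := Ext.covariant_sequence_exact₁ ZE hS x (Ext.eq_zero_of_injective _) (n₀ := n) rfl
        exact ⟨y, hy⟩
      have sP : ∀ n, Function.Surjective (cP n) := fun n x => by
        obtain ⟨y, hy⟩ := Ext.covariant_sequence_exact₁ ZP hP x (Ext.eq_zero_of_injective _) (n₀ := n) rfl
        exact ⟨y, hy⟩
      let e := e' S.X₃ (cechAcyclicA_quotient hS hF)
      have hI2 : CechAcyclicA S.X₂ := fun W' W π _ _ _ n => Groth.Agent.EpsLib.hExact_injective_sheaf S.X₂ (Groth.Agent.EpsLib.nerveOf π) n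
      suffices h : ∃ g : EtCoh.H X F (i + 1) ≃+ EtZar.H ((EtZar.resZar X).obj F) (i + 1), ∀ x, g (cE i x) = cP i (e x) from h
      refine exists_addEquiv_of_surjections e (cE i) (cP i) (sE i) (sP i) fun b => ⟨fun hb => ?_, fun hb => ?_⟩
      · obtain ⟨y, rfl⟩ := Ext.covariant_sequence_exact₃ ZE hS b (n₁ := i + 1) rfl hb
        show Ext.comp (e (Sheaf.H.map S.g i y)) hP.extClass rfl = 0
        rw [show e (Sheaf.H.map S.g i y) = Sheaf.H.map P.g i (e' S.X₂ hI2 y) from he' _ _ hI2 (cechAcyclicA_quotient hS hF) _ _]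
        show (Ext.comp (e' S.X₂ hI2 y) (Ext.mk₀ P.g) (add_zero i)).comp hP.extClass rfl = 0
        rw [Ext.comp_assoc_of_second_deg_zero, hP.comp_extClass, Ext.comp_zero]
      · obtain ⟨y, hy⟩ := Ext.covariant_sequence_exact₃ ZP hP (e b) (n₁ := i + 1) rfl hb
        have hb' : b = Sheaf.H.map S.g i ((e' S.X₂ hI2).symm y) := e.injective (by
          rw [show e (Sheaf.H.map S.g i ((e' S.X₂ hI2).symm y)) = Sheaf.H.map P.g i (e' S.X₂ hI2 ((e' S.X₂ hI2).symm y)) from he' _ _ hI2 (cechAcyclicA_quotient hS hF) _ _,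
            AddEquiv.apply_symm_apply]
          exact hy.symm)
        rw [hb']
        show (Ext.comp ((e' S.X₂ hI2).symm y) (Ext.mk₀ S.g) (add_zero i)).comp hS.extClass rfl = 0
        rw [Ext.comp_assoc_of_second_deg_zero, hS.comp_extClass, Ext.comp_zero]
    choose g hg using key
    refine ⟨g, fun F F' hF hF' φ x => ?_⟩
    haveI : (EtZar.resZar X).Additive := { }
    haveI : Injective (CohLib.injSC F').X₂ := inferInstanceAs (Injective (Injective.under F'))
    haveI : Injective (CohLib.injSC F).X₂ := inferInstanceAs (Injective (Injective.under F))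
    have hS := CohLib.injSC_shortExact F
    have hS' := CohLib.injSC_shortExact F'
    obtain ⟨ψ, hψ⟩ := exists_hom_of_injective hS hS' φ
    subst hψ
    obtain ⟨b, rfl⟩ : ∃ b : EtCoh.H X (CohLib.injSC F).X₃ i, Ext.comp b hS.extClass rfl = x := by
      obtain ⟨y, hy⟩ := Ext.covariant_sequence_exact₁ _ hS x (Ext.eq_zero_of_injective _) (n₀ := i) rfl
      exact ⟨y, hy⟩
    have h1 : Sheaf.H.map ψ.τ₁ (i + 1) (Ext.comp b hS.extClass rfl) =
        Ext.comp (Sheaf.H.map ψ.τ₃ i b) hS'.extClass rfl :=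
      ((Ext.comp_assoc_of_third_deg_zero _ _ _ rfl).trans (by rw [ShortComplex.ShortExact.extClass_naturality hS hS' ψ])).trans
        (Ext.comp_assoc_of_second_deg_zero _ _ _ _).symm
    rw [h1, hg, hg, he' _ _ (cechAcyclicA_quotient hS hF)]
    exact ((Ext.comp_assoc_of_second_deg_zero _ _ _ _).trans (congrArg (fun w => Ext.comp (e' _ (cechAcyclicA_quotient hS hF) b) w rfl)
      (ShortComplex.ShortExact.extClass_naturality (shortExact_resZar hS hF) (shortExact_resZar hS' hF')
        ((EtZar.resZar X).mapShortComplex.map ψ)).symm)).trans (Ext.comp_assoc_of_third_deg_zero _ _ _ rfl).symm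

/-- Raising the universe does not change cohomology, naturally. -/
theorem exists_up_equiv : ∀ i : ℕ, ∃ e : ∀ F : CohTop.Ab X.toTopCat, (CohTop.H F i ≃+ EtZar.H ((up X).obj F) i),
    ∀ (F F' : CohTop.Ab X.toTopCat) (φ : F ⟶ F') (x : CohTop.H F i),
      e F' (Sheaf.H.map φ i x) = Sheaf.H.map ((up X).map φ) i (e F x) := by
  intro i
  induction i with
  | zero => exact ⟨fun F => u0 F, fun F F' φ x => u0_nat φ x⟩
  | succ i ih =>
    obtain ⟨e', he'⟩ := ih
    haveI := preservesFiniteLimits_up (X := X)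
    haveI : (up X).Additive := Functor.additive_of_preserves_binary_products _
    have key : ∀ F : CohTop.Ab X.toTopCat, ∃ (hP : ((QCohLib.injSeq F).map (up X)).ShortExact)
        (g : CohTop.H F (i + 1) ≃+ EtZar.H ((up X).obj F) (i + 1)),
        ∀ b : CohTop.H (QCohLib.injSeq F).X₃ i,
          g (Ext.comp b (QCohLib.injSeq_shortExact F).extClass rfl) = Ext.comp (e' _ b) hP.extClass rfl := by
      intro F
      haveI := preservesFiniteLimits_up (X := X)
      haveI : (up X).Additive := Functor.additive_of_preserves_binary_products _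
      let S := QCohLib.injSeq F
      have hS : S.ShortExact := QCohLib.injSeq_shortExact F
      let P := S.map (up X)
      have hP : P.ShortExact := by
        haveI := hS.mono_f; haveI := hS.epi_g
        haveI : Mono P.f := (up X).map_mono S.f
        haveI : Epi P.g := epi_up S.g
        have hex : P.Exact := ShortComplex.exact_of_f_is_kernel P
          ((KernelFork.isLimitMapConeEquiv _ (up X)) (isLimitOfPreserves (up X) hS.fIsKernel))
        exact { exact := hex }
      let ZE := (constantSheaf (Opens.grothendieckTopology X) AddCommGrpCat.{u}).obj (AddCommGrpCat.of (ULift.{u} ℤ))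
      let ZP := (constantSheaf (Opens.grothendieckTopology X) AddCommGrpCat.{u + 1}).obj (AddCommGrpCat.of (ULift.{u + 1} ℤ))
      let cE : ∀ n : ℕ, Ext.{u} ZE S.X₃ n →+ Ext.{u} ZE S.X₁ (n + 1) := fun n => hS.extClass.postcomp ZE rfl
      let cP : ∀ n : ℕ, Ext.{u + 1} ZP P.X₃ n →+ Ext.{u + 1} ZP P.X₁ (n + 1) := fun n => hP.extClass.postcomp ZP rfl
      haveI : Injective S.X₂ := inferInstanceAs (Injective (Injective.under F))
      have vP : ∀ (n : ℕ) (x : Ext.{u + 1} ZP P.X₂ (n + 1)), x = 0 := fun n x =>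
        haveI := subsingleton_H_flasque n _ (flasque_up S.X₂)
        Subsingleton.elim (α := EtZar.H ((up X).obj S.X₂) (n + 1)) _ _
      have sE : ∀ n, Function.Surjective (cE n) := fun n x => by
        obtain ⟨y, hy⟩ := Ext.covariant_sequence_exact₁ ZE hS x (Ext.eq_zero_of_injective _) (n₀ := n) rfl
        exact ⟨y, hy⟩
      have sP : ∀ n, Function.Surjective (cP n) := fun n x => by
        obtain ⟨y, hy⟩ := Ext.covariant_sequence_exact₁ ZP hP x (vP n _) (n₀ := n) rfl
        exact ⟨y, hy⟩
      let e := e' S.X₃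
      refine ⟨hP, ?_⟩
      suffices h : ∃ g : CohTop.H F (i + 1) ≃+ EtZar.H ((up X).obj F) (i + 1), ∀ x, g (cE i x) = cP i (e x) from h
      refine exists_addEquiv_of_surjections e (cE i) (cP i) (sE i) (sP i) fun b => ⟨fun hb => ?_, fun hb => ?_⟩
      · obtain ⟨y, rfl⟩ := Ext.covariant_sequence_exact₃ ZE hS b (n₁ := i + 1) rfl hb
        show Ext.comp (e (Sheaf.H.map S.g i y)) hP.extClass rfl = 0
        rw [show e (Sheaf.H.map S.g i y) = Sheaf.H.map P.g i (e' S.X₂ y) from he' _ _ _ _]
        show (Ext.comp (e' S.X₂ y) (Ext.mk₀ P.g) (add_zero i)).comp hP.extClass rfl = 0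
        rw [Ext.comp_assoc_of_second_deg_zero, hP.comp_extClass, Ext.comp_zero]
      · obtain ⟨y, hy⟩ := Ext.covariant_sequence_exact₃ ZP hP (e b) (n₁ := i + 1) rfl hb
        have hb' : b = Sheaf.H.map S.g i ((e' S.X₂).symm y) := e.injective (by
          rw [show e (Sheaf.H.map S.g i ((e' S.X₂).symm y)) = Sheaf.H.map P.g i (e' S.X₂ ((e' S.X₂).symm y)) from he' _ _ _ _,
            AddEquiv.apply_symm_apply]
          exact hy.symm)
        rw [hb']
        show (Ext.comp ((e' S.X₂).symm y) (Ext.mk₀ S.g) (add_zero i)).comp hS.extClass rfl = 0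
        rw [Ext.comp_assoc_of_second_deg_zero, hS.comp_extClass, Ext.comp_zero]
    choose hP g hg using key
    refine ⟨g, fun F F' φ x => ?_⟩
    haveI : Injective (QCohLib.injSeq F').X₂ := inferInstanceAs (Injective (Injective.under F'))
    haveI : Injective (QCohLib.injSeq F).X₂ := inferInstanceAs (Injective (Injective.under F))
    have hS := QCohLib.injSeq_shortExact F
    have hS' := QCohLib.injSeq_shortExact F'
    obtain ⟨ψ, hψ⟩ := exists_hom_of_injective hS hS' φ
    subst hψ
    obtain ⟨b, rfl⟩ : ∃ b : CohTop.H (QCohLib.injSeq F).X₃ i, Ext.comp b hS.extClass rfl = x := by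
      obtain ⟨y, hy⟩ := Ext.covariant_sequence_exact₁ _ hS x (Ext.eq_zero_of_injective _) (n₀ := i) rfl
      exact ⟨y, hy⟩
    have h1 : Sheaf.H.map ψ.τ₁ (i + 1) (Ext.comp b hS.extClass rfl) =
        Ext.comp (Sheaf.H.map ψ.τ₃ i b) hS'.extClass rfl :=
      ((Ext.comp_assoc_of_third_deg_zero _ _ _ rfl).trans (by rw [ShortComplex.ShortExact.extClass_naturality hS hS' ψ])).trans
        (Ext.comp_assoc_of_second_deg_zero _ _ _ _).symm
    rw [h1, hg, hg, he']
    exact ((Ext.comp_assoc_of_second_deg_zero _ _ _ _).trans (congrArg (fun w => Ext.comp (e' _ b) w rfl)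
      (ShortComplex.ShortExact.extClass_naturality (hP F) (hP F') ((up X).mapShortComplex.map ψ)).symm)).trans (Ext.comp_assoc_of_third_deg_zero _ _ _ rfl).symm

end EtZarLib
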