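import Groth.Agent.EtZarLib.Main
import Groth.Agent.EtZarLib.Lift

/-!
# Étale cohomology of the additive group is coherent cohomology
-/

set_option autoImplicit false
set_option linter.unusedSectionVars false
set_option linter.style.haveILetI false
set_option backward.isDefEq.respectTransparency false
set_option backward.isDefEq.respectTransparency.types false
set_option maxHeartbeats 1000000

universe u

open CategoryTheory CategoryTheory.Limits CategoryTheory.Abelian AlgebraicGeometry Opposite TopologicalSpace
open Groth.Agent.EtShLib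

noncomputable section

namespace EtZarLib

variable (X : Scheme.{u}) [EtZar.ZarCont X]

/-- Functions on an open, as sections on the étale object. -/
def gaIsoApp (U : X.Opens) :
    ((EtZar.resZar X).obj (EtCoh.Ga X)).obj.obj (op U) ≅ ((up X).obj (Coh.toAb (Coh.structureModule X))).obj.obj (op U) :=
  AddCommGrpCat.uliftFunctor.{u + 1, u}.mapIso ((forget₂ CommRingCat RingCat ⋙ forget₂ RingCat AddCommGrpCat).mapIso U.topIso)

/-- The restriction of `G_a` to the Zariski site. -/
def gaIso : (EtZar.resZar X).obj (EtCoh.Ga X) ≅ (up X).obj (Coh.toAb (Coh.structureModule X)) :=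
  (fullyFaithfulSheafToPresheaf _ _).preimageIso (NatIso.ofComponents (fun U => gaIsoApp X U.unop) (fun {U V} i => by
    refine ConcreteCategory.hom_ext _ _ fun x => ?_
    refine ULift.ext _ _ ?_
    show (Scheme.Opens.topIso V.unop).hom.hom ((X.homOfLE i.unop.le).appTop.hom x.down) =
      X.presheaf.map i ((Scheme.Opens.topIso U.unop).hom.hom x.down)
    exact congrArg (fun m => m.hom x.down) (show (X.homOfLE i.unop.le).appTop ≫ (Scheme.Opens.topIso V.unop).hom =
      (Scheme.Opens.topIso U.unop).hom ≫ X.presheaf.map i by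
        rw [Scheme.homOfLE_appTop, Scheme.Opens.topIso_hom, Scheme.Opens.topIso_hom, ← Functor.map_comp, ← Functor.map_comp]
        exact congrArg X.presheaf.map (Subsingleton.elim _ _))))

theorem nonempty_Ga_equiv (p : ℕ) :
    Nonempty (EtCoh.H X (EtCoh.Ga X) p ≃+ Coh.HH X (Coh.structureModule X) p) := by
  obtain ⟨e⟩ := nonempty_H_equiv (X := X) p (EtCoh.Ga X) cechAcyclicA_Ga
  obtain ⟨e'⟩ := nonempty_up_equiv (X := X) p (Coh.toAb (Coh.structureModule X))
  let ψ : EtZar.H ((EtZar.resZar X).obj (EtCoh.Ga X)) p ≃+ EtZar.H ((up X).obj (Coh.toAb (Coh.structureModule X))) p :=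
    { toFun := Sheaf.H.map (gaIso X).hom p
      invFun := Sheaf.H.map (gaIso X).inv p
      left_inv := fun x => by rw [← Sheaf.H.map_comp_apply, Iso.hom_inv_id, Sheaf.H.map_id_apply]
      right_inv := fun x => by rw [← Sheaf.H.map_comp_apply, Iso.inv_hom_id, Sheaf.H.map_id_apply]
      map_add' := map_add _ }
  exact ⟨(e.trans ψ).trans e'.symm⟩

end EtZarLib
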