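import Groth.Agent.EtShLib.GaAffine
import Groth.Agent.KFlatLib.AffinePull
import Groth.Prelude.Def_EtAssoc2

/-!
# Quasi-coherent modules on the étale site are acyclic on affine objects
-/

set_option autoImplicit false
set_option linter.unusedSectionVars false
set_option linter.style.haveILetI false
set_option backward.isDefEq.respectTransparency false
set_option backward.isDefEq.respectTransparency.types false
set_option maxHeartbeats 400000
set_option synthInstance.maxHeartbeats 100000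

universe u

open CategoryTheory CategoryTheory.Limits CategoryTheory.Abelian AlgebraicGeometry Opposite TopologicalSpace TensorProduct
open Groth.Agent Groth.Agent.EtShLib Groth.Agent.EtShLib.GaAux

noncomputable section

namespace EtZarLib

variable {X : Scheme.{u}} (F : X.Modules)

/-- The pullback to an étale object. -/
abbrev pbM (U : X.Etale) : U.left.Modules := (Scheme.Modules.pullback U.hom).obj F

/-- Its global sections. -/
abbrev sec (U : X.Etale) : Type u := Γ(pbM F U, ⊤)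

/-- Restriction. -/
abbrev rs {U U' : X.Etale} (g : U' ⟶ U) : sec F U →+ sec F U' := (EtAssoc.resMap F g).hom

theorem rs_eq {U U' : X.Etale} (g : U' ⟶ U) (m : sec F U) :
    rs F g m = (EtAssoc.step2a F g).app ⊤ (KFlatLib.puSecLE g.left (pbM F U) (le_top : ⊤ ≤ g.left ⁻¹ᵁ ⊤) m) := rfl

theorem rs_smul {U U' : X.Etale} (g : U' ⟶ U) (r : Γ(U.left, ⊤)) (m : sec F U) :
    rs F g (r • m) = res g r • rs F g m := by
  rw [rs_eq, rs_eq, KFlatLib.puSecLE_smul, Scheme.Modules.Hom.app_smul]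
  refine congrArg (fun t : Γ(U'.left, ⊤) => t • _) ?_
  show (g.left.appLE ⊤ ⊤ le_top).hom r = g.left.appTop.hom r
  rw [Scheme.Hom.appTop, Scheme.Hom.app_eq_appLE]
  rfl

theorem isQCoh_pbM [F.IsQuasicoherent] (U : X.Etale) : Coh.IsQCoh (pbM F U) :=
  haveI : Coh.IsQCoh F := ‹F.IsQuasicoherent›
  KFlatLib.isQCoh_pullback U.hom F

/-- Sections on affine objects are obtained by base change. -/
theorem isBaseChange_rs [F.IsQuasicoherent] {U U' : X.Etale} [IsAffine U.left] [IsAffine U'.left] (g : U' ⟶ U)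
    [Algebra Γ(U.left, ⊤) Γ(U'.left, ⊤)] [Module Γ(U.left, ⊤) (sec F U')]
    [IsScalarTower Γ(U.left, ⊤) Γ(U'.left, ⊤) (sec F U')] (halg : ∀ r, algebraMap Γ(U.left, ⊤) Γ(U'.left, ⊤) r = res g r)
    (ψ : sec F U →ₗ[Γ(U.left, ⊤)] sec F U') (hψ : ∀ m, ψ m = rs F g m) :
    IsBaseChange Γ(U'.left, ⊤) ψ := by
  haveI := isQCoh_pbM F U
  let N := KFlatLib.pb g.left (pbM F U)
  letI : Module Γ(U.left, ⊤) Γ(N, ⊤) := Module.compHom Γ(N, ⊤) (algebraMap Γ(U.left, ⊤) Γ(U'.left, ⊤))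
  haveI : IsScalarTower Γ(U.left, ⊤) Γ(U'.left, ⊤) Γ(N, ⊤) := IsScalarTower.of_algebraMap_smul fun _ _ => rfl
  have halg' : ∀ r, algebraMap Γ(U.left, ⊤) Γ(U'.left, ⊤) r = (g.left.appLE ⊤ ⊤ le_top).hom r := fun r => by
    rw [halg]
    show g.left.appTop.hom r = _
    rw [Scheme.Hom.appTop, Scheme.Hom.app_eq_appLE]
    rfl
  let pu : sec F U →ₗ[Γ(U.left, ⊤)] Γ(N, ⊤) :=
    { toFun := KFlatLib.puSecLE g.left (pbM F U) (le_top : ⊤ ≤ g.left ⁻¹ᵁ ⊤)
      map_add' := map_add _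
      map_smul' := fun r m => (KFlatLib.puSecLE_smul g.left _ _ r m).trans (by
        rw [RingHom.id_apply, ← halg']; rfl) }
  have h1 := KFlatLib.isBaseChange_puSec g.left (pbM F U) (isAffineOpen_top _) (isAffineOpen_top _)
    (le_top : ⊤ ≤ g.left ⁻¹ᵁ ⊤) halg' pu (fun _ => rfl)
  haveI : IsIso (EtAssoc.step2a F g) := by unfold EtAssoc.step2a; infer_instance
  let i := asIso (EtAssoc.step2a F g)
  let E : Γ(N, ⊤) ≃ₗ[Γ(U'.left, ⊤)] sec F U' :=
    { toFun := fun x => i.hom.app ⊤ x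
      map_add' := map_add _
      map_smul' := fun r x => Scheme.Modules.Hom.app_smul i.hom r x
      invFun := fun x => i.inv.app ⊤ x
      left_inv := fun x => congr($(i.hom_inv_id).app ⊤ x)
      right_inv := fun x => congr($(i.inv_hom_id).app ⊤ x) }
  refine IsBaseChange.of_equiv (h1.equiv.trans E) fun m => ?_
  rw [LinearEquiv.trans_apply, h1.equiv_tmul, one_smul, hψ, rs_eq]
  rfl

variable {F} {G : EtCoh.Ab X} (hG : EtAssoc.IsAssoc F G)
include hG

theorem exists_map_eq : ∃ (A : X.Etale → Type (u + 1)) (a : ∀ U, A U → sec F U) (f : ∀ {U U' : X.Etale}, (U' ⟶ U) → A U → A U'),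
    (∀ U, Function.Surjective (a U)) ∧ (∀ {U U' U'' : X.Etale} (g : U' ⟶ U) (h : U'' ⟶ U') (t : A U), f h (f g t) = f (h ≫ g) t) ∧
    (∀ {U : X.Etale} (t : A U), f (𝟙 U) t = t) ∧
    ∀ {U U' : X.Etale} (g : U' ⟶ U) (t : A U), a U' (f g t) = rs F g (a U t) := by
  obtain ⟨e, he⟩ := hG
  refine ⟨fun U => G.obj.obj (op U), fun U t => (e U t).down, fun g t => G.obj.map g.op t,
    fun U => ULift.down_surjective.comp (e U).surjective, ?_, ?_, ?_⟩
  · intro U U' U'' g h t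
    show G.obj.map h.op (G.obj.map g.op t) = G.obj.map (h ≫ g).op t
    rw [op_comp, Functor.map_comp, ConcreteCategory.comp_apply]
  · intro U t
    show G.obj.map (𝟙 U).op t = t
    rw [op_id, CategoryTheory.Functor.map_id, ConcreteCategory.id_apply]
  · intro U U' g t
    exact he U U' g t

theorem rs_rs {U U' U'' : X.Etale} (g : U' ⟶ U) (h : U'' ⟶ U') (m : sec F U) :
    rs F h (rs F g m) = rs F (h ≫ g) m := by
  obtain ⟨A, a, f, hs, hc, -, ha⟩ := exists_map_eq hG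
  obtain ⟨t, rfl⟩ := hs U m
  rw [← ha g, ← ha h, ← ha (h ≫ g), hc]

theorem rs_id {U : X.Etale} (m : sec F U) : rs F (𝟙 U) m = m := by
  obtain ⟨A, a, f, hs, -, hi, ha⟩ := exists_map_eq hG
  obtain ⟨t, rfl⟩ := hs U m
  rw [← ha (𝟙 U), hi]

omit hG

/-- Modules of sections on the étale site, abstractly. -/
structure Mods (X : Scheme.{u}) where
  /-- sections -/
  A : X.Etale → Type u
  [grp : ∀ U, AddCommGroup (A U)]
  [mdl : ∀ U : X.Etale, Module Γ(U.left, ⊤) (A U)]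
  /-- restriction -/
  r : ∀ {U U' : X.Etale}, (U' ⟶ U) → A U →+ A U'
  r_smul : ∀ {U U' : X.Etale} (g : U' ⟶ U) (a : Γ(U.left, ⊤)) (m : A U), r g (a • m) = res g a • r g m
  r_r : ∀ {U U' U'' : X.Etale} (g : U' ⟶ U) (h : U'' ⟶ U') (m : A U), r h (r g m) = r (h ≫ g) m
  r_id : ∀ {U : X.Etale} (m : A U), r (𝟙 U) m = m
  isBC : ∀ {U U' : X.Etale} [IsAffine U.left] [IsAffine U'.left] (g : U' ⟶ U)
    [Algebra Γ(U.left, ⊤) Γ(U'.left, ⊤)] [Module Γ(U.left, ⊤) (A U')]
    [IsScalarTower Γ(U.left, ⊤) Γ(U'.left, ⊤) (A U')] (_ : ∀ t, algebraMap Γ(U.left, ⊤) Γ(U'.left, ⊤) t = res g t)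
    (ψ : A U →ₗ[Γ(U.left, ⊤)] A U') (_ : ∀ m, ψ m = r g m), IsBaseChange Γ(U'.left, ⊤) ψ

attribute [instance] Mods.grp Mods.mdl

variable (P : Mods X) {W' W : X.Etale} (π : W' ⟶ W)

/-- The differential. -/
def Mods.dM (n : ℕ) : P.A (obj π n) →+ P.A (obj π (n + 1)) :=
  ∑ i : Fin (n + 2), ((-1 : ℤ) ^ (i : ℕ)) • P.r (face π n i)

theorem Mods.dM_apply (n : ℕ) (x : P.A (obj π n)) :
    P.dM π n x = ∑ i : Fin (n + 2), ((-1 : ℤ) ^ (i : ℕ)) • P.r (face π n i) x := by
  simp [Mods.dM, AddMonoidHom.finsetSum_apply]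

/-- The differential without the first face. -/
def Mods.dM' (n : ℕ) : P.A (obj π (n + 1)) →+ P.A (obj π (n + 2)) :=
  ∑ i : Fin (n + 2), ((-1 : ℤ) ^ (i : ℕ)) • P.r (face π (n + 1) i.succ)

theorem Mods.dM'_apply (n : ℕ) (x : P.A (obj π (n + 1))) :
    P.dM' π n x = ∑ i : Fin (n + 2), ((-1 : ℤ) ^ (i : ℕ)) • P.r (face π (n + 1) i.succ) x := by
  simp [Mods.dM', AddMonoidHom.finsetSum_apply]


theorem Mods.dM'_exact (n : ℕ) (x : P.A (obj π (n + 2))) (h : P.dM' π (n + 1) x = 0) :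
    ∃ y, P.dM' π n y = x := by
  refine ⟨P.r (dup π (n + 1)) x, ?_⟩
  have h' := congrArg (P.r (dup π (n + 2))) h
  rw [P.dM'_apply, map_sum, map_zero, Fin.sum_univ_succ] at h'
  simp only [map_zsmul, P.r_r, Fin.val_zero, pow_zero, one_smul, Fin.val_succ,
    show (0 : Fin (n + 2 + 1)).succ = 1 from rfl, dup_face_one, P.r_id, dup_face] at h'
  rw [P.dM'_apply, eq_comm, ← sub_eq_zero, sub_eq_add_neg, ← Finset.sum_neg_distrib]
  refine Eq.trans (congrArg (x + ·) (Finset.sum_congr rfl fun i _ => ?_)) h'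
  rw [P.r_r, pow_succ, mul_neg_one, neg_smul]

theorem Mods.dM_exact [Surjective π.left] [IsAffine W'.left] [IsAffine W.left] (n : ℕ)
    (hdd : ∀ y, P.dM π (n + 1) (P.dM π n y) = 0) (x : P.A (obj π (n + 1))) (hx : P.dM π (n + 1) x = 0) : ∃ y, P.dM π n y = x := by
  let Gf := Scheme.Etale.forget X ⋙ Over.forget X
  have hsq : ∀ m, IsPullback (pr π (m + 1) 0).left (face π m 0).left π.left (EpsLib.pow π m).hom.left := fun m => by
    rw [face_zero_eq]
    exact (IsPullback.of_hasPullback π (EpsLib.pow π m).hom).map Gf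
  have haff : ∀ m, IsAffine (obj π m).left := fun m => pow_isAffine π m
  haveI := haff
  haveI := etale_left π
  letI : Algebra Γ(W.left, ⊤) Γ(W'.left, ⊤) := (res π).toAlgebra
  haveI : Module.FaithfullyFlat Γ(W.left, ⊤) Γ(W'.left, ⊤) :=
    (AlgebraicGeometry.Flat.flat_and_surjective_iff_faithfullyFlat_of_isAffine π.left).1 ⟨inferInstance, inferInstance⟩
  letI : ∀ m, Algebra Γ(W.left, ⊤) Γ((obj π m).left, ⊤) := fun m => (res (pr π m 0 ≫ π)).toAlgebra
  letI : ∀ m, Algebra Γ(W'.left, ⊤) Γ((obj π (m + 1)).left, ⊤) := fun m => (res (pr π (m + 1) 0)).toAlgebra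
  haveI : ∀ m, IsScalarTower Γ(W.left, ⊤) Γ(W'.left, ⊤) Γ((obj π (m + 1)).left, ⊤) := fun m =>
    IsScalarTower.of_algebraMap_eq fun a => (res_comp (pr π (m + 1) 0) π a).symm
  letI : ∀ m, Module Γ(W.left, ⊤) (P.A (obj π m)) := fun m =>
    Module.compHom (P.A (obj π m)) (res (pr π m 0 ≫ π))
  haveI : ∀ m, IsScalarTower Γ(W.left, ⊤) Γ((obj π m).left, ⊤) (P.A (obj π m)) := fun m =>
    IsScalarTower.of_algebraMap_smul fun _ _ => rfl
  have hlin : ∀ m (i : Fin (m + 2)) (a : Γ(W.left, ⊤)) (z : P.A (obj π m)),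
      P.r (face π m i) (a • z) = a • P.r (face π m i) z := fun m i a z => by
    refine (P.r_smul (face π m i) (res (pr π m 0 ≫ π) a) z).trans ?_
    rw [res_comp, face_w]
    rfl
  let D : ∀ m, P.A (obj π m) →ₗ[Γ(W.left, ⊤)] P.A (obj π (m + 1)) := fun m =>
    { toFun := P.dM π m
      map_add' := map_add _
      map_smul' := fun a z => by
        rw [RingHom.id_apply, P.dM_apply, P.dM_apply, Finset.smul_sum]
        exact Finset.sum_congr rfl fun i _ => by rw [hlin, smul_comm] }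
  have hpo : ∀ m, ∃ e : Γ(W'.left, ⊤) ⊗[Γ(W.left, ⊤)] P.A (obj π m) ≃+ P.A (obj π (m + 1)),
      ∀ b z, e (b ⊗ₜ z) = res (pr π (m + 1) 0) b • P.r (face π m 0) z := fun m => by
    letI : Algebra Γ((obj π m).left, ⊤) Γ((obj π (m + 1)).left, ⊤) := (res (face π m 0)).toAlgebra
    haveI : IsScalarTower Γ(W.left, ⊤) Γ((obj π m).left, ⊤) Γ((obj π (m + 1)).left, ⊤) :=
      IsScalarTower.of_algebraMap_eq fun a => by
        show res (pr π (m + 1) 0 ≫ π) a = res (face π m 0) (res (pr π m 0 ≫ π) a)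
        rw [res_comp, face_w]
    haveI : IsAffine (EpsLib.pow π m).left.left := haff m
    have hp := isPushout_appTop_of_isPullback (hsq m)
    have hp' : IsPushout (CommRingCat.ofHom (algebraMap Γ(W.left, ⊤) Γ(W'.left, ⊤)))
        (CommRingCat.ofHom (algebraMap Γ(W.left, ⊤) Γ((obj π m).left, ⊤)))
        (CommRingCat.ofHom (algebraMap Γ(W'.left, ⊤) Γ((obj π (m + 1)).left, ⊤)))
        (CommRingCat.ofHom (algebraMap Γ((obj π m).left, ⊤) Γ((obj π (m + 1)).left, ⊤))) := by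
      have hh : (EpsLib.pow π m).hom = pr π m 0 ≫ π := (EpsLib.powPr_w π m 0).symm
      rw [hh] at hp
      exact hp
    haveI : Algebra.IsPushout Γ(W.left, ⊤) Γ(W'.left, ⊤) Γ((obj π m).left, ⊤) Γ((obj π (m + 1)).left, ⊤) :=
      CommRingCat.isPushout_iff_isPushout.1 hp'
    letI : Module Γ((obj π m).left, ⊤) (P.A (obj π (m + 1))) :=
      Module.compHom (P.A (obj π (m + 1))) (res (face π m 0))
    haveI : IsScalarTower Γ((obj π m).left, ⊤) Γ((obj π (m + 1)).left, ⊤) (P.A (obj π (m + 1))) :=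
      IsScalarTower.of_algebraMap_smul fun _ _ => rfl
    let ψ : P.A (obj π m) →ₗ[Γ((obj π m).left, ⊤)] P.A (obj π (m + 1)) :=
      { toFun := P.r (face π m 0), map_add' := map_add _, map_smul' := fun r z => P.r_smul _ r z }
    have hb := P.isBC (face π m 0) (fun _ => rfl) ψ (fun _ => rfl)
    refine ⟨(Algebra.IsPushout.cancelBaseChangeAux Γ(W.left, ⊤) Γ(W'.left, ⊤) Γ((obj π m).left, ⊤)
      Γ((obj π (m + 1)).left, ⊤) (P.A (obj π m))).symm.toAddEquiv.trans hb.equiv.toAddEquiv, fun b z => ?_⟩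
    show hb.equiv ((Algebra.IsPushout.cancelBaseChangeAux Γ(W.left, ⊤) Γ(W'.left, ⊤) Γ((obj π m).left, ⊤)
      Γ((obj π (m + 1)).left, ⊤) (P.A (obj π m))).symm (b ⊗ₜ z)) = _
    rw [Algebra.IsPushout.cancelBaseChangeAux_symm_tmul, IsBaseChange.equiv_tmul]
    rfl
  choose e he using hpo
  have hcomm : ∀ m z, P.dM' π m (e m z) = e (m + 1) ((D m).lTensor Γ(W'.left, ⊤) z) := fun m z => by
    induction z using TensorProduct.induction_on with
    | zero => simp
    | add z₁ z₂ h₁ h₂ => simp only [map_add, h₁, h₂]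
    | tmul b y =>
      rw [LinearMap.lTensor_tmul, he, he, P.dM'_apply]
      show _ = _ • P.r (face π (m + 1) 0) (P.dM π m y)
      rw [P.dM_apply, map_sum, Finset.smul_sum]
      refine Finset.sum_congr rfl fun i _ => ?_
      rw [P.r_smul, map_zsmul, res_comp, P.r_r, P.r_r, face_succ_pr, face_comm, smul_comm]
  have hex : Function.Exact (D n) (D (n + 1)) := by
    rw [← Module.FaithfullyFlat.lTensor_exact_iff_exact Γ(W.left, ⊤) Γ(W'.left, ⊤)]
    have h2 : (D (n + 1)) ∘ₗ (D n) = 0 := LinearMap.ext hdd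
    intro z
    refine ⟨fun hz => ?_, ?_⟩
    · obtain ⟨y, hy⟩ := P.dM'_exact π n (e (n + 1) z) (by rw [hcomm, hz, map_zero])
      obtain ⟨y', rfl⟩ := (e n).surjective y
      exact ⟨y', (e (n + 1)).injective (by rw [← hcomm, hy])⟩
    · rintro ⟨w, rfl⟩
      rw [← LinearMap.comp_apply, ← LinearMap.lTensor_comp, h2, LinearMap.lTensor_zero, LinearMap.zero_apply]
  exact (hex x).1 hx

variable (F)

/-- The sections of a quasi-coherent module. -/
def assocMods [F.IsQuasicoherent] {G : EtCoh.Ab X} (hG : EtAssoc.IsAssoc F G) : Mods X where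
  A := sec F
  r := rs F
  r_smul := rs_smul F
  r_r := rs_rs hG
  r_id := rs_id hG
  isBC := isBaseChange_rs F

variable {F}

theorem exists_mods [F.IsQuasicoherent] {G : EtCoh.Ab X} (hG : EtAssoc.IsAssoc F G) :
    ∃ (P : Mods X) (a : ∀ U, G.obj.obj (op U) →+ P.A U), (∀ U, Function.Bijective (a U)) ∧
      ∀ {U U' : X.Etale} (g : U' ⟶ U) (t : G.obj.obj (op U)), a U' (G.obj.map g.op t) = P.r g (a U t) := by
  obtain ⟨e, he⟩ := hG
  exact ⟨assocMods F ⟨e, he⟩, fun U => ((e U).trans AddEquiv.ulift).toAddMonoidHom,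
    fun U => ((e U).trans AddEquiv.ulift).bijective, fun g t => he _ _ g t⟩

theorem cechAcyclicA_of_mods (P : Mods X) {G : EtCoh.Ab X} (a : ∀ U, G.obj.obj (op U) →+ P.A U)
    (ha : ∀ U, Function.Bijective (a U))
    (hr : ∀ {U U' : X.Etale} (g : U' ⟶ U) (t : G.obj.obj (op U)), a U' (G.obj.map g.op t) = P.r g (a U t)) :
    CechAcyclicA G := fun W' W π h1 h2 h3 n s hs => by
  haveI := h1; haveI := h2; haveI := h3
  have key : ∀ m (t : G.obj.obj (op (obj π m))),
      a (obj π (m + 1)) (EpsLib.cechD (EpsLib.nerveOf π) G.obj m t) = P.dM π m (a (obj π m) t) := fun m t => by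
    rw [EpsLib.cechD_apply, P.dM_apply, map_sum]
    refine Finset.sum_congr rfl fun i _ => ?_
    rw [map_zsmul]
    exact congrArg (fun w => ((-1 : ℤ) ^ (i : ℕ)) • w) (hr (face π m i) t)
  obtain ⟨y, hy⟩ := P.dM_exact π n (fun y => by
      obtain ⟨t, rfl⟩ := (ha (obj π n)).2 y
      rw [← key, ← key, EpsLib.cechD_cechD, map_zero]) (a (obj π (n + 1)) s) (by
      rw [← key, hs, map_zero])
  obtain ⟨t, rfl⟩ := (ha (obj π n)).2 y
  exact ⟨t, (ha _).1 ((key n t).trans hy)⟩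

theorem cechAcyclicA_of_isAssoc [F.IsQuasicoherent] {G : EtCoh.Ab X} (hG : EtAssoc.IsAssoc F G) : CechAcyclicA G := by
  obtain ⟨P, a, ha, hr⟩ := exists_mods hG
  exact cechAcyclicA_of_mods P a ha hr

end EtZarLib
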