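import Groth.Agent.EtZarStrictLib.Basic
import Groth.Agent.EtShLib.GaAffine
import Groth.Agent.RDerLib.LeftExact
import Groth.Agent.EtZarLib.Lift

/-!
# Sheaves acyclic on affine étale objects: Zariski cohomology computes étale cohomology
-/

set_option autoImplicit false
set_option linter.unusedSectionVars false
set_option linter.style.haveILetI false
set_option backward.isDefEq.respectTransparency false
set_option backward.isDefEq.respectTransparency.types false
set_option maxHeartbeats 1000000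

universe u

open CategoryTheory CategoryTheory.Limits CategoryTheory.Abelian AlgebraicGeometry Opposite TopologicalSpace
open Groth.Agent.EtShLib

namespace EtZarLib

variable (X : Scheme.{u})

theorem zarCont : EtZar.ZarCont X := by
  haveI := EtZarStrictLib.flat_zarToEt X
  refine Functor.isContinuous_of_coverPreserving (compatiblePreservingOfFlat _ _) ⟨fun {U} R hR => ?_⟩
  have hx : ∀ x : U, ∃ (V : X.Opens) (h : V ⟶ U), R h ∧ x.1 ∈ V := fun x => hR x.1 x.2
  choose V h hR' hxV using hx
  refine GrothendieckTopology.superset_covering X.smallEtaleTopology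
    (S := Sieve.ofArrows (fun x : U => (EtZar.zarToEt X).obj (V x)) fun x => (EtZar.zarToEt X).map (h x))
    ((Sieve.generate_le_iff _ _).2 ?_) ?_
  · rintro Y g ⟨x⟩
    exact Sieve.image_mem_functorPushforward _ _ (hR' x)
  · rw [Scheme.ofArrows_mem_smallEtaleTopology_iff]
    refine Set.eq_univ_of_forall fun y => Set.mem_iUnion.2 ⟨⟨y.1, y.2⟩, ⟨⟨y.1, hxV ⟨y.1, y.2⟩⟩, Subtype.ext ?_⟩⟩
    exact congrArg (fun m : (V ⟨y.1, y.2⟩).toScheme ⟶ X => m ⟨y.1, hxV ⟨y.1, y.2⟩⟩) (X.homOfLE_ι (h ⟨y.1, y.2⟩).le)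

variable {X} [EtZar.ZarCont X]

theorem preservesFiniteLimits_resZar : PreservesFiniteLimits (EtZar.resZar X) := by
  let adj := (EtZar.zarToEt X).sheafAdjunctionContinuous AddCommGrpCat.{u + 1} (Opens.grothendieckTopology X)
    X.smallEtaleTopology
  haveI : (EtZar.resZar X).IsRightAdjoint := adj.isRightAdjoint
  infer_instance

theorem injective_resZar (I : EtCoh.Ab X) [Injective I] : Injective ((EtZar.resZar X).obj I) := by
  haveI := EtZarStrictLib.flat_zarToEt X
  let adj := (EtZar.zarToEt X).sheafAdjunctionContinuous AddCommGrpCat.{u + 1} (Opens.grothendieckTopology X)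
    X.smallEtaleTopology
  haveI : PreservesFiniteLimits ((EtZar.zarToEt X).sheafPullback AddCommGrpCat.{u + 1}
      (Opens.grothendieckTopology X) X.smallEtaleTopology) :=
    AnLib.sheafPullback_preservesFiniteLimits.{u + 1} _ _ _
  exact Injective.injective_of_adjoint adj I

theorem epi_resZar_map {S : ShortComplex (EtCoh.Ab X)} (hS : S.ShortExact) (h : CechAcyclicA S.X₁) :
    Epi ((EtZar.resZar X).map S.g) := by
  suffices h' : Sheaf.IsLocallySurjective ((EtZar.resZar X).map S.g) from Sheaf.epi_of_isLocallySurjective _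
  refine ⟨fun {U} y => ?_⟩
  intro x hx
  obtain ⟨V, hV, hxV, hVU⟩ := exists_isAffineOpen_mem_and_subset (x := x) (U := U) hx
  exact ⟨V, homOfLE hVU, surjective_sectionsA hS h (W := (EtZar.zarToEt X).obj V) hV _, hxV⟩

theorem shortExact_resZar {S : ShortComplex (EtCoh.Ab X)} (hS : S.ShortExact) (h : CechAcyclicA S.X₁) :
    haveI : (EtZar.resZar X).Additive := { }
    (S.map (EtZar.resZar X)).ShortExact :=
  haveI := preservesFiniteLimits_resZar (X := X)
  haveI : (EtZar.resZar X).Additive := { }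
  Groth.Agent.RDerLib.map_shortExact hS (epi_resZar_map hS h)

theorem isZero_rightDerived [(EtZar.resZar X).Additive] : ∀ (q : ℕ) (G : EtCoh.Ab X), CechAcyclicA G →
    IsZero (((EtZar.resZar X).rightDerived (q + 1)).obj G)
  | 0, G, hG => by
    haveI := preservesFiniteLimits_resZar (X := X)
    haveI : Injective (CohLib.injSC G).X₂ := inferInstanceAs (Injective (Injective.under G))
    exact Groth.Agent.RDerLib.isZero_X₁_succ (CohLib.injSC_shortExact G) 0
      (Functor.isZero_rightDerived_obj_injective_succ _ 0 _)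
      ((Groth.Agent.RDerLib.epi_map_g_iff _).2 (epi_resZar_map (CohLib.injSC_shortExact G) hG))
  | q + 1, G, hG => by
    haveI : Injective (CohLib.injSC G).X₂ := inferInstanceAs (Injective (Injective.under G))
    have h3 := isZero_rightDerived q _ (cechAcyclicA_quotient (CohLib.injSC_shortExact G) hG)
    exact Groth.Agent.RDerLib.isZero_X₁_succ (CohLib.injSC_shortExact G) (q + 1)
      (Functor.isZero_rightDerived_obj_injective_succ _ (q + 1) _)
      (h3.epi _)

/-- Global sections agree. -/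
noncomputable def e0 (F : EtCoh.Ab X) : EtCoh.H X F 0 ≃+ EtZar.H ((EtZar.resZar X).obj F) 0 :=
  (Sheaf.H.equiv₀ F (MorphismProperty.Over.mkIdTerminal EtCoh.etaleMP X)).trans
    ((F.obj.mapIso (MorphismProperty.Over.isoMk X.topIso (by show X.topIso.hom ≫ 𝟙 X = _; rw [Category.comp_id]; rfl) :
      (EtZar.zarToEt X).obj ⊤ ≅ EtCoh.top X).op).addCommGroupIsoToAddEquiv.trans
      (Sheaf.H.equiv₀ ((EtZar.resZar X).obj F) (IsTerminal.ofUniqueHom (fun _ => homOfLE le_top)
        fun _ _ => Subsingleton.elim _ _ : IsTerminal (⊤ : X.Opens))).symm)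

theorem e0_nat {F F' : EtCoh.Ab X} (g : F ⟶ F') (x : EtCoh.H X F 0) :
    e0 F' (Sheaf.H.map g 0 x) = Sheaf.H.map ((EtZar.resZar X).map g) 0 (e0 F x) := by
  let hE : IsTerminal (EtCoh.top X) := MorphismProperty.Over.mkIdTerminal EtCoh.etaleMP X
  show (Sheaf.H.equiv₀ _ _).symm _ = Sheaf.H.map _ 0 ((Sheaf.H.equiv₀ _ _).symm _)
  rw [Sheaf.H.equiv₀_symm_naturality]
  refine congrArg _ ?_
  show F'.obj.map _ (Sheaf.H.equiv₀ F' hE (Sheaf.H.map g 0 x)) = _
  rw [← Sheaf.H.equiv₀_naturality]
  exact (NatTrans.naturality_apply g.hom _ _).symm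

/-- Étale cohomology of an affine-acyclic sheaf is Zariski cohomology. -/
theorem nonempty_H_equiv : ∀ (i : ℕ) (F : EtCoh.Ab X), CechAcyclicA F →
    Nonempty (EtCoh.H X F i ≃+ EtZar.H ((EtZar.resZar X).obj F) i) := by
  intro i
  induction i with
  | zero => exact fun F _ => ⟨e0 F⟩
  | succ i ih =>
    intro F hF
    haveI : (EtZar.resZar X).Additive := { }
    let S := CohLib.injSC F
    have hS : S.ShortExact := CohLib.injSC_shortExact F
    let P := S.map (EtZar.resZar X)
    have hP : P.ShortExact := shortExact_resZar hS hF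
    let ZE := (constantSheaf X.smallEtaleTopology AddCommGrpCat.{u + 1}).obj (AddCommGrpCat.of (ULift.{u + 1} ℤ))
    let ZP := (constantSheaf (Opens.grothendieckTopology X) AddCommGrpCat.{u + 1}).obj (AddCommGrpCat.of (ULift.{u + 1} ℤ))
    let cE : ∀ n : ℕ, Ext.{u + 1} ZE S.X₃ n →+ Ext.{u + 1} ZE S.X₁ (n + 1) := fun n => hS.extClass.postcomp ZE rfl
    let cP : ∀ n : ℕ, Ext.{u + 1} ZP P.X₃ n →+ Ext.{u + 1} ZP P.X₁ (n + 1) := fun n => hP.extClass.postcomp ZP rfl
    haveI : Injective S.X₂ := inferInstanceAs (Injective (Injective.under F))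
    haveI : Injective P.X₂ := injective_resZar S.X₂
    have sE : ∀ n, Function.Surjective (cE n) := fun n x => by
      obtain ⟨y, hy⟩ := Ext.covariant_sequence_exact₁ ZE hS x (Ext.eq_zero_of_injective _) (n₀ := n) rfl
      exact ⟨y, hy⟩
    have sP : ∀ n, Function.Surjective (cP n) := fun n x => by
      obtain ⟨y, hy⟩ := Ext.covariant_sequence_exact₁ ZP hP x (Ext.eq_zero_of_injective _) (n₀ := n) rfl
      exact ⟨y, hy⟩
    cases i with
    | zero =>
      refine addEquiv_of_surjections (e0 S.X₃) (cE 0) (cP 0) (sE 0) (sP 0) fun b => ⟨fun hb => ?_, fun hb => ?_⟩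
      · obtain ⟨y, rfl⟩ := Ext.covariant_sequence_exact₃ ZE hS b (n₁ := 1) rfl hb
        show Ext.comp (e0 S.X₃ (Sheaf.H.map S.g 0 y)) hP.extClass rfl = 0
        rw [e0_nat]
        show (Ext.comp (e0 S.X₂ y) (Ext.mk₀ P.g) (add_zero 0)).comp hP.extClass rfl = 0
        rw [Ext.comp_assoc_of_second_deg_zero, hP.comp_extClass, Ext.comp_zero]
      · obtain ⟨y, hy⟩ := Ext.covariant_sequence_exact₃ ZP hP (e0 S.X₃ b) (n₁ := 1) rfl hb
        have hb' : b = Sheaf.H.map S.g 0 ((e0 S.X₂).symm y) := (e0 S.X₃).injective (by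
          rw [e0_nat, AddEquiv.apply_symm_apply]
          exact hy.symm)
        rw [hb']
        show (Ext.comp ((e0 S.X₂).symm y) (Ext.mk₀ S.g) (add_zero 0)).comp hS.extClass rfl = 0
        rw [Ext.comp_assoc_of_second_deg_zero, hS.comp_extClass, Ext.comp_zero]
    | succ j =>
      obtain ⟨e⟩ := ih S.X₃ (cechAcyclicA_quotient hS hF)
      refine addEquiv_of_surjections e (cE (j + 1)) (cP (j + 1)) (sE _) (sP _) fun b => ⟨fun hb => ?_, fun hb => ?_⟩
      · obtain ⟨y, rfl⟩ := Ext.covariant_sequence_exact₃ ZE hS b (n₁ := j + 1 + 1) rfl hb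
        rw [Ext.eq_zero_of_injective y, Ext.zero_comp]
        show cP (j + 1) (e 0) = 0
        rw [map_zero, map_zero]
      · obtain ⟨y, hy⟩ := Ext.covariant_sequence_exact₃ ZP hP (e b) (n₁ := j + 1 + 1) rfl hb
        rw [Ext.eq_zero_of_injective y, Ext.zero_comp] at hy
        have hb' : b = 0 := e.injective (hy.symm.trans (map_zero e).symm)
        rw [hb']
        exact map_zero (cE (j + 1))

end EtZarLib
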