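import Groth.Agent.EtZarLib.Assoc
import Groth.Agent.EtZarLib.Main
import Groth.Agent.EtZarLib.Lift
import Groth.Agent.CohCmpLib.PuSec

/-!
# The restriction of the associated étale sheaf to the Zariski site
-/

set_option autoImplicit false
set_option linter.unusedSectionVars false
set_option linter.style.haveILetI false
set_option backward.isDefEq.respectTransparency false
set_option backward.isDefEq.respectTransparency.types false
set_option maxHeartbeats 400000

universe u

open CategoryTheory CategoryTheory.Limits CategoryTheory.Abelian AlgebraicGeometry Opposite TopologicalSpace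
open KFlatLib (puSec puSecLE)

noncomputable section

namespace EtZarLib

variable {X : Scheme.{u}} (F : X.Modules)

/-- A section on an open as a section on the étale object. -/
def toOv (U : X.Opens) : Γ(F, U) →+ sec F ((EtZar.zarToEt X).obj U) :=
  puSecLE U.ι F (fun y _ => y.2 : (⊤ : U.toScheme.Opens) ≤ U.ι ⁻¹ᵁ U)

theorem bijective_toOv (U : X.Opens) : Function.Bijective (toOv F U) := by
  let hW : (⊤ : U.toScheme.Opens) ≤ U.ι ⁻¹ᵁ U := fun y _ => y.2
  have he : U.ι ''ᵁ ⊤ = U := U.ι_image_top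
  have hb : Function.Bijective (fun m : Γ(F, U) => F.presheaf.map (homOfLE
      ((U.ι.image_mono hW).trans (U.ι.image_preimage_le U))).op m) := by
    haveI : IsIso (homOfLE ((U.ι.image_mono hW).trans (U.ι.image_preimage_le U))) :=
      ⟨homOfLE he.ge, Subsingleton.elim _ _, Subsingleton.elim _ _⟩
    exact ConcreteCategory.bijective_of_isIso _
  have hi : Function.Bijective (fun z => (F.restrictAppIso U.ι ⊤).inv z) := ConcreteCategory.bijective_of_isIso _
  haveI : IsIso ((Scheme.Modules.restrictFunctorIsoPullback U.ι).hom.app F) := inferInstance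
  have hj : Function.Bijective (fun z => ((Scheme.Modules.restrictFunctorIsoPullback U.ι).hom.app F).app ⊤ z) := by
    let i := (Scheme.Modules.restrictFunctorIsoPullback U.ι).app F
    exact ⟨Function.LeftInverse.injective (g := fun z => i.inv.app ⊤ z) fun z => congr($(i.hom_inv_id).app ⊤ z),
      Function.RightInverse.surjective (g := fun z => i.inv.app ⊤ z) fun z => congr($(i.inv_hom_id).app ⊤ z)⟩
  have e : (fun m => puSecLE U.ι F hW m) = _ := funext fun m => (CohCmpLib.restrictIso_puSec U.ι F m hW).symm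
  show Function.Bijective (fun m => puSecLE U.ι F hW m)
  exact e ▸ hj.comp (hi.comp hb)

theorem eqToHom_puSecLE {Z : Scheme.{u}} {f g : Z ⟶ X} (h : f = g) {U : X.Opens} (m : Γ(F, U))
    {V : Z.Opens} (hf : V ≤ f ⁻¹ᵁ U) (hg : V ≤ g ⁻¹ᵁ U) :
    Scheme.Modules.Hom.app (eqToHom (congrArg (fun k => (Scheme.Modules.pullback k).obj F) h)) V (puSecLE f F hf m) = puSecLE g F hg m := by
  subst h
  rfl

theorem rs_toOv {U V : X.Opens} (i : V ⟶ U) (m : Γ(F, U)) :
    rs F ((EtZar.zarToEt X).map i) (toOv F U m) = toOv F V (F.presheaf.map i.op m) := by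
  rw [rs_eq, EtAssoc.step2a, Scheme.Modules.Hom.comp_app]
  show Scheme.Modules.Hom.app (eqToHom _) ⊤ (((Scheme.Modules.pullbackComp ((EtZar.zarToEt X).map i).left U.ι).hom.app F).app ⊤
    (puSecLE ((EtZar.zarToEt X).map i).left _ (le_top : ⊤ ≤ ((EtZar.zarToEt X).map i).left ⁻¹ᵁ ⊤) (toOv F U m))) = _
  refine (congrArg (fun t => Scheme.Modules.Hom.app (eqToHom _) ⊤ t) (CohCmpLib.pullbackComp_puSecLE
    ((EtZar.zarToEt X).map i).left U.ι F m (fun y _ => y.2) le_top)).trans ?_
  refine (eqToHom_puSecLE F (X.homOfLE_ι i.le) m _ (fun y _ => i.le y.2)).trans ?_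
  show puSecLE V.ι F _ m = puSecLE V.ι F _ (F.presheaf.map i.op m)
  rw [KFlatLib.puSecLE_apply, KFlatLib.puSecLE_apply]
  refine Eq.trans ?_ (congrArg (((Scheme.Modules.pullback V.ι).obj F).presheaf.map (homOfLE _).op)
    (QCohLib.app_map ((Scheme.Modules.pullbackPushforwardAdjunction V.ι).unit.app F) i m)).symm
  exact (QCohLib.map_map' _ _ _ _).symm

variable {F} [EtZar.ZarCont X] {G : EtCoh.Ab X}

/-- The Zariski restriction of an associated sheaf. -/
theorem nonempty_iso_resZar (hG : EtAssoc.IsAssoc F G) :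
    Nonempty ((up X).obj (Coh.toAb F) ≅ (EtZar.resZar X).obj G) := by
  obtain ⟨e, he⟩ := hG
  let ψ : ∀ U : X.Opens, ULift.{u + 1} Γ(F, U) ≃+ G.obj.obj (op ((EtZar.zarToEt X).obj U)) := fun U =>
    (AddEquiv.ulift.trans ((AddEquiv.ofBijective (toOv F U) (bijective_toOv F U)).trans AddEquiv.ulift.symm)).trans
      (e ((EtZar.zarToEt X).obj U)).symm
  refine ⟨(fullyFaithfulSheafToPresheaf _ _).preimageIso (NatIso.ofComponents
    (fun U => (ψ U.unop).toAddCommGrpIso) fun {U V} i => ?_)⟩
  refine ConcreteCategory.hom_ext _ _ fun z => (e ((EtZar.zarToEt X).obj V.unop)).injective (ULift.ext _ _ ?_)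
  show ((e _) ((e _).symm (ULift.up (toOv F V.unop (F.presheaf.map i z.down))))).down =
    ((e _) (G.obj.map ((EtZar.zarToEt X).map i.unop).op ((e _).symm (ULift.up (toOv F U.unop z.down))))).down
  rw [AddEquiv.apply_symm_apply, he, AddEquiv.apply_symm_apply]
  exact (rs_toOv F i.unop z.down).symm

theorem nonempty_H_assoc [F.IsQuasicoherent] (hG : EtAssoc.IsAssoc F G) (q : ℕ) :
    Nonempty (EtCoh.H X G q ≃+ ULift.{u + 1} (Coh.HH X F q)) := by
  obtain ⟨e⟩ := nonempty_H_equiv (X := X) q G (cechAcyclicA_of_isAssoc hG)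
  obtain ⟨e'⟩ := nonempty_up_equiv (X := X) q (Coh.toAb F)
  obtain ⟨γ⟩ := nonempty_iso_resZar hG
  let ψ : EtZar.H ((EtZar.resZar X).obj G) q ≃+ EtZar.H ((up X).obj (Coh.toAb F)) q :=
    { toFun := Sheaf.H.map γ.inv q
      invFun := Sheaf.H.map γ.hom q
      left_inv := fun x => by rw [← Sheaf.H.map_comp_apply, Iso.inv_hom_id, Sheaf.H.map_id_apply]
      right_inv := fun x => by rw [← Sheaf.H.map_comp_apply, Iso.hom_inv_id, Sheaf.H.map_id_apply]
      map_add' := map_add _ }
  exact ⟨((e.trans ψ).trans e'.symm).trans AddEquiv.ulift.symm⟩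

end EtZarLib
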