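import Groth.Agent.EtZarLib.Assoc

/-!
# Descent of sections along an affine étale cover
-/

set_option autoImplicit false
set_option linter.unusedSectionVars false
set_option linter.style.haveILetI false
set_option backward.isDefEq.respectTransparency false
set_option backward.isDefEq.respectTransparency.types false
set_option maxHeartbeats 400000
set_option synthInstance.maxHeartbeats 100000

universe u

open CategoryTheory CategoryTheory.Limits AlgebraicGeometry Opposite TopologicalSpace TensorProduct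
open Groth.Agent Groth.Agent.EtShLib Groth.Agent.EtShLib.GaAux

noncomputable section

namespace EtZarLib

variable {X : Scheme.{u}} (P : Mods X) {W' W : X.Etale} (π : W' ⟶ W)

theorem Mods.injective_r [Surjective π.left] [IsAffine W'.left] [IsAffine W.left] : Function.Injective (P.r π) := by
  haveI := etale_left π
  letI : Algebra Γ(W.left, ⊤) Γ(W'.left, ⊤) := (res π).toAlgebra
  haveI : Module.FaithfullyFlat Γ(W.left, ⊤) Γ(W'.left, ⊤) :=
    (AlgebraicGeometry.Flat.flat_and_surjective_iff_faithfullyFlat_of_isAffine π.left).1 ⟨inferInstance, inferInstance⟩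
  letI : Module Γ(W.left, ⊤) (P.A W') := Module.compHom (P.A W') (res π)
  haveI : IsScalarTower Γ(W.left, ⊤) Γ(W'.left, ⊤) (P.A W') := IsScalarTower.of_algebraMap_smul fun _ _ => rfl
  let ψ : P.A W →ₗ[Γ(W.left, ⊤)] P.A W' :=
    { toFun := P.r π, map_add' := map_add _, map_smul' := fun t z => P.r_smul π t z }
  have hb := P.isBC π (fun _ => rfl) ψ (fun _ => rfl)
  have h : Function.Injective (fun y => hb.equiv (1 ⊗ₜ[Γ(W.left, ⊤)] y)) :=
    hb.equiv.injective.comp (Module.FaithfullyFlat.tensorProduct_mk_injective (B := Γ(W'.left, ⊤)) (P.A W))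
  intro a b hab
  refine h ?_
  show hb.equiv (1 ⊗ₜ a) = hb.equiv (1 ⊗ₜ b)
  rw [hb.equiv_tmul, hb.equiv_tmul]
  exact congrArg ((1 : Γ(W'.left, ⊤)) • ·) hab

theorem Mods.dM'_zero (z : P.A (obj π 1)) (h : P.dM' π 0 z = 0) :
    z = P.r (face π 0 1 ≫ dup π 0) z := by
  have h' := congrArg (P.r (dup π 1)) h
  rw [P.dM'_apply, Fin.sum_univ_two] at h'
  simp only [Fin.val_zero, pow_zero, one_smul, Fin.val_one, pow_one, neg_smul, map_add, map_neg, map_zero, P.r_r] at h'
  rw [show (0 : Fin 2).succ = (1 : Fin 3) from rfl, dup_face_one π 1, P.r_id,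
    show dup π 1 ≫ face π 1 (1 : Fin 2).succ = face π 0 1 ≫ dup π 0 from dup_face π 0 0] at h'
  exact add_neg_eq_zero.1 h'

theorem Mods.exists_descend [Surjective π.left] [IsAffine W'.left] [IsAffine W.left] (x : P.A (obj π 0))
    (hx : P.dM π 0 x = 0) : ∃ y, x = P.r (pr π 0 0 ≫ π) y := by
  let Gf := Scheme.Etale.forget X ⋙ Over.forget X
  have hsq : ∀ m, IsPullback (pr π (m + 1) 0).left (face π m 0).left π.left (EpsLib.pow π m).hom.left := fun m => by
    rw [face_zero_eq]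
    exact (IsPullback.of_hasPullback π (EpsLib.pow π m).hom).map Gf
  have haff : ∀ m, IsAffine (obj π m).left := fun m => pow_isAffine π m
  haveI := haff
  haveI := etale_left π
  letI : Algebra Γ(W.left, ⊤) Γ(W'.left, ⊤) := (res π).toAlgebra
  haveI : Module.FaithfullyFlat Γ(W.left, ⊤) Γ(W'.left, ⊤) :=
    (AlgebraicGeometry.Flat.flat_and_surjective_iff_faithfullyFlat_of_isAffine π.left).1 ⟨inferInstance, inferInstance⟩
  letI : ∀ m, Algebra Γ(W.left, ⊤) Γ((obj π m).left, ⊤) := fun m => (res (pr π m 0 ≫ π)).toAlgebra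
  letI : ∀ m, Algebra Γ(W'.left, ⊤) Γ((obj π m).left, ⊤) := fun m => (res (pr π m 0)).toAlgebra
  haveI : ∀ m, IsScalarTower Γ(W.left, ⊤) Γ(W'.left, ⊤) Γ((obj π m).left, ⊤) := fun m =>
    IsScalarTower.of_algebraMap_eq fun a => (res_comp (pr π m 0) π a).symm
  letI : ∀ m, Module Γ(W.left, ⊤) (P.A (obj π m)) := fun m =>
    Module.compHom (P.A (obj π m)) (res (pr π m 0 ≫ π))
  haveI : ∀ m, IsScalarTower Γ(W.left, ⊤) Γ((obj π m).left, ⊤) (P.A (obj π m)) := fun m =>
    IsScalarTower.of_algebraMap_smul fun _ _ => rfl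
  have hlin : ∀ m (i : Fin (m + 2)) (a : Γ(W.left, ⊤)) (z : P.A (obj π m)),
      P.r (face π m i) (a • z) = a • P.r (face π m i) z := fun m i a z => by
    refine (P.r_smul (face π m i) (res (pr π m 0 ≫ π) a) z).trans ?_
    rw [res_comp, face_w]
    rfl
  let D : P.A (obj π 0) →ₗ[Γ(W.left, ⊤)] P.A (obj π 1) :=
    { toFun := P.dM π 0
      map_add' := map_add _
      map_smul' := fun a z => by
        rw [RingHom.id_apply, P.dM_apply, P.dM_apply, Finset.smul_sum]
        exact Finset.sum_congr rfl fun i _ => by rw [hlin, smul_comm] }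
  let aug : P.A W →ₗ[Γ(W.left, ⊤)] P.A (obj π 0) :=
    { toFun := P.r (pr π 0 0 ≫ π), map_add' := map_add _, map_smul' := fun a z => P.r_smul _ a z }
  -- the augmentation, tensored
  obtain ⟨e', he'⟩ : ∃ e : Γ(W'.left, ⊤) ⊗[Γ(W.left, ⊤)] P.A W ≃+ P.A W',
      ∀ b y, e (b ⊗ₜ y) = b • P.r π y := by
    letI : Module Γ(W.left, ⊤) (P.A W') := Module.compHom (P.A W') (res π)
    haveI : IsScalarTower Γ(W.left, ⊤) Γ(W'.left, ⊤) (P.A W') := IsScalarTower.of_algebraMap_smul fun _ _ => rfl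
    let ψ : P.A W →ₗ[Γ(W.left, ⊤)] P.A W' :=
      { toFun := P.r π, map_add' := map_add _, map_smul' := fun t z => P.r_smul π t z }
    have hb := P.isBC π (fun _ => rfl) ψ (fun _ => rfl)
    exact ⟨hb.equiv.toAddEquiv, fun b y => hb.equiv_tmul b y⟩
  obtain ⟨e, he⟩ : ∃ e : Γ(W'.left, ⊤) ⊗[Γ(W.left, ⊤)] P.A (obj π 0) ≃+ P.A (obj π 1),
      ∀ b z, e (b ⊗ₜ z) = res (pr π 1 0) b • P.r (face π 0 0) z := by
    letI : Algebra Γ((obj π 0).left, ⊤) Γ((obj π 1).left, ⊤) := (res (face π 0 0)).toAlgebra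
    haveI : IsScalarTower Γ(W.left, ⊤) Γ((obj π 0).left, ⊤) Γ((obj π 1).left, ⊤) :=
      IsScalarTower.of_algebraMap_eq fun a => by
        show res (pr π 1 0 ≫ π) a = res (face π 0 0) (res (pr π 0 0 ≫ π) a)
        rw [res_comp, face_w]
    haveI : IsAffine (EpsLib.pow π 0).left.left := haff 0
    have hp := isPushout_appTop_of_isPullback (hsq 0)
    have hp' : IsPushout (CommRingCat.ofHom (algebraMap Γ(W.left, ⊤) Γ(W'.left, ⊤)))
        (CommRingCat.ofHom (algebraMap Γ(W.left, ⊤) Γ((obj π 0).left, ⊤)))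
        (CommRingCat.ofHom (algebraMap Γ(W'.left, ⊤) Γ((obj π 1).left, ⊤)))
        (CommRingCat.ofHom (algebraMap Γ((obj π 0).left, ⊤) Γ((obj π 1).left, ⊤))) := by
      have hh : (EpsLib.pow π 0).hom = pr π 0 0 ≫ π := (EpsLib.powPr_w π 0 0).symm
      rw [hh] at hp
      exact hp
    haveI : Algebra.IsPushout Γ(W.left, ⊤) Γ(W'.left, ⊤) Γ((obj π 0).left, ⊤) Γ((obj π 1).left, ⊤) :=
      CommRingCat.isPushout_iff_isPushout.1 hp'
    letI : Module Γ((obj π 0).left, ⊤) (P.A (obj π 1)) := Module.compHom (P.A (obj π 1)) (res (face π 0 0))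
    haveI : IsScalarTower Γ((obj π 0).left, ⊤) Γ((obj π 1).left, ⊤) (P.A (obj π 1)) :=
      IsScalarTower.of_algebraMap_smul fun _ _ => rfl
    let ψ : P.A (obj π 0) →ₗ[Γ((obj π 0).left, ⊤)] P.A (obj π 1) :=
      { toFun := P.r (face π 0 0), map_add' := map_add _, map_smul' := fun t z => P.r_smul _ t z }
    have hb := P.isBC (face π 0 0) (fun _ => rfl) ψ (fun _ => rfl)
    refine ⟨(Algebra.IsPushout.cancelBaseChangeAux Γ(W.left, ⊤) Γ(W'.left, ⊤) Γ((obj π 0).left, ⊤)
      Γ((obj π 1).left, ⊤) (P.A (obj π 0))).symm.toAddEquiv.trans hb.equiv.toAddEquiv, fun b z => ?_⟩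
    show hb.equiv ((Algebra.IsPushout.cancelBaseChangeAux Γ(W.left, ⊤) Γ(W'.left, ⊤) Γ((obj π 0).left, ⊤)
      Γ((obj π 1).left, ⊤) (P.A (obj π 0))).symm (b ⊗ₜ z)) = _
    rw [Algebra.IsPushout.cancelBaseChangeAux_symm_tmul, IsBaseChange.equiv_tmul]
    rfl
  have haug : ∀ w, P.r (pr π 1 0) (e' w) = e (aug.lTensor Γ(W'.left, ⊤) w) := fun w => by
    induction w using TensorProduct.induction_on with
    | zero => simp
    | add a b h1 h2 => simp only [map_add, h1, h2]
    | tmul b y =>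
      rw [LinearMap.lTensor_tmul, he, he', P.r_smul]
      show _ = _ • P.r (face π 0 0) (P.r (pr π 0 0 ≫ π) y)
      rw [P.r_r, P.r_r, face_w]
  obtain ⟨e₁, he₁⟩ : ∃ e₁ : Γ(W'.left, ⊤) ⊗[Γ(W.left, ⊤)] P.A (obj π 1) →+ P.A (obj π 2),
      ∀ b z, e₁ (b ⊗ₜ z) = res (pr π 2 0) b • P.r (face π 1 0) z := by
    refine ⟨TensorProduct.liftAddHom (AddMonoidHom.mk' (fun b => AddMonoidHom.mk'
      (fun z => res (pr π 2 0) b • P.r (face π 1 0) z) fun z z' => by rw [map_add, smul_add])
      fun b b' => AddMonoidHom.ext fun z => by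
        show res (pr π 2 0) (b + b') • P.r (face π 1 0) z =
          res (pr π 2 0) b • P.r (face π 1 0) z + res (pr π 2 0) b' • P.r (face π 1 0) z
        rw [map_add, add_smul]) (fun a b z => ?_), fun b z => rfl⟩
    show res (pr π 2 0) (a • b) • P.r (face π 1 0) z = res (pr π 2 0) b • P.r (face π 1 0) (a • z)
    rw [hlin, Algebra.smul_def, map_mul, mul_comm, mul_smul]
    congr 1
  have hcomm : ∀ w, P.dM' π 0 (e w) = e₁ (D.lTensor Γ(W'.left, ⊤) w) := fun w => by
    induction w using TensorProduct.induction_on with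
    | zero => simp
    | add a b h₁ h₂ => simp only [map_add, h₁, h₂]
    | tmul b y =>
      rw [LinearMap.lTensor_tmul, he, he₁, P.dM'_apply]
      show _ = _ • P.r (face π 1 0) (P.dM π 0 y)
      rw [P.dM_apply, map_sum, Finset.smul_sum]
      refine Finset.sum_congr rfl fun i _ => ?_
      rw [P.r_smul, map_zsmul, res_comp, P.r_r, P.r_r, face_succ_pr, face_comm, smul_comm]
  have hd0 : ∀ y, D (aug y) = 0 := fun y => by
    show P.dM π 0 (P.r (pr π 0 0 ≫ π) y) = 0
    rw [P.dM_apply, Fin.sum_univ_two, P.r_r, P.r_r, face_w, face_w]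
    simp
  have hex : Function.Exact aug D := by
    rw [← Module.FaithfullyFlat.lTensor_exact_iff_exact Γ(W.left, ⊤) Γ(W'.left, ⊤)]
    intro z
    refine ⟨fun hz => ?_, ?_⟩
    · have h1 := P.dM'_zero π (e z) (by rw [hcomm, hz, map_zero])
      have hp : face π 0 1 = pr π 1 0 := (EpsLib.nerveOf π).ext 0 _ _ fun k => by
        obtain rfl : k = 0 := Fin.eq_zero k
        rw [(EpsLib.nerveOf π).face_pr]
        exact (Category.comp_id _).symm
      rw [← P.r_r, hp] at h1
      refine ⟨e'.symm (P.r (dup π 0) (e z)), e.injective ?_⟩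
      rw [← haug, AddEquiv.apply_symm_apply]
      exact h1.symm
    · rintro ⟨w, rfl⟩
      rw [← LinearMap.comp_apply, ← LinearMap.lTensor_comp, show D ∘ₗ aug = 0 from LinearMap.ext hd0,
        LinearMap.lTensor_zero, LinearMap.zero_apply]
  obtain ⟨y, hy⟩ := (hex x).1 hx
  exact ⟨y, hy.symm⟩

end EtZarLib
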