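import Groth.Agent.EtZarLib.Pre
import Groth.Agent.EtZarLib.Desc
import Groth.Agent.EtZarLib.AssocZar

/-!
# The étale sheaf of a quasi-coherent module exists
-/

set_option autoImplicit false
set_option linter.unusedSectionVars false
set_option linter.style.haveILetI false
set_option backward.isDefEq.respectTransparency false
set_option backward.isDefEq.respectTransparency.types false
set_option maxHeartbeats 400000

universe u

open CategoryTheory CategoryTheory.Limits AlgebraicGeometry Opposite TopologicalSpace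
open Groth.Agent Groth.Agent.EtShLib Groth.Agent.EtShLib.GaAux
open KFlatLib (puSec puSecLE pb)

noncomputable section

namespace EtZarLib

variable {X : Scheme.{u}} (F : X.Modules)

/-- An open of an étale object. -/
abbrev subEt (U : X.Etale) (V : U.left.Opens) : X.Etale :=
  haveI : AlgebraicGeometry.Etale U.hom := U.prop
  MorphismProperty.Over.mk ⊤ (V.ι ≫ U.hom) (inferInstanceAs (AlgebraicGeometry.Etale (V.ι ≫ U.hom)))

/-- Its inclusion. -/
abbrev subι (U : X.Etale) (V : U.left.Opens) : subEt U V ⟶ U := MorphismProperty.Over.homMk V.ι rfl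

/-- Inclusion of opens of an étale object. -/
abbrev subHom {U : X.Etale} {T V : U.left.Opens} (h : T ≤ V) : subEt U T ⟶ subEt U V :=
  MorphismProperty.Over.homMk (U.left.homOfLE h) (by
    show U.left.homOfLE h ≫ V.ι ≫ U.hom = T.ι ≫ U.hom
    rw [U.left.homOfLE_ι_assoc])

theorem subHom_ι {U : X.Etale} {T V : U.left.Opens} (h : T ≤ V) : subHom h ≫ subι U V = subι U T :=
  MorphismProperty.Over.Hom.ext (U.left.homOfLE_ι h)

theorem rsL_congr {U U' : X.Etale} {g g' : U' ⟶ U} (e : g = g') {V : U.left.Opens} {V' : U'.left.Opens}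
    (h : V' ≤ g.left ⁻¹ᵁ V) (h' : V' ≤ g'.left ⁻¹ᵁ V) (m : Γ(pbM F U, V)) : rsL F g h m = rsL F g' h' m := by
  subst e; rfl

theorem rs_rs' {U U' U'' : X.Etale} (g : U' ⟶ U) (h : U'' ⟶ U') (m : sec F U) :
    rs F h (rs F g m) = rs F (h ≫ g) m :=
  rsL_rsL F g h (le_top : ⊤ ≤ g.left ⁻¹ᵁ ⊤) (le_top : ⊤ ≤ h.left ⁻¹ᵁ ⊤) m

theorem rs_id' {U : X.Etale} (m : sec F U) : rs F (𝟙 U) m = m := by
  rw [← rsL_top, rsL_id F _ le_rfl]
  exact congr($((pbM F U).presheaf.map_id _) m)

/-- Sections over an open of an étale object. -/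
def secV (U : X.Etale) (V : U.left.Opens) : Γ(pbM F U, V) →+ sec F (subEt U V) :=
  rsL F (subι U V) (fun y _ => y.2 : (⊤ : V.toScheme.Opens) ≤ V.ι ⁻¹ᵁ V)

theorem bijective_secV (U : X.Etale) (V : U.left.Opens) : Function.Bijective (secV F U V) := by
  haveI : IsIso (EtAssoc.step2a F (subι U V)) := by unfold EtAssoc.step2a; infer_instance
  let i := asIso (EtAssoc.step2a F (subι U V))
  have hj : Function.Bijective (fun z => i.hom.app ⊤ z) :=
    ⟨Function.LeftInverse.injective (g := fun z => i.inv.app ⊤ z) fun z => congr($(i.hom_inv_id).app ⊤ z),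
      Function.RightInverse.surjective (g := fun z => i.inv.app ⊤ z) fun z => congr($(i.inv_hom_id).app ⊤ z)⟩
  exact hj.comp (bijective_toOv (pbM F U) V)

theorem secV_res {U : X.Etale} {T V : U.left.Opens} (h : T ≤ V) (s : Γ(pbM F U, V)) :
    secV F U T ((pbM F U).presheaf.map (homOfLE h).op s) = rs F (subHom h) (secV F U V s) := by
  rw [secV, rsL_res, ← rsL_top F (subHom h), secV, rsL_rsL]
  exact rsL_congr F (subHom_ι h).symm _ _ s

theorem secV_top {U : X.Etale} (V : U.left.Opens) (s : sec F U) :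
    secV F U V ((pbM F U).presheaf.map (homOfLE (le_top : V ≤ ⊤)).op s) = rs F (subι U V) s := by
  rw [secV, rsL_res]
  rfl

/-- The sections of the module, as abstract modules of sections. -/
def qcMods [F.IsQuasicoherent] : Mods X where
  A := sec F
  r := rs F
  r_smul := rs_smul F
  r_r := rs_rs' F
  r_id := rs_id' F
  isBC := isBaseChange_rs F

theorem exists_chart {U : X.Etale} {R : Sieve U} (hR : R ∈ X.smallEtaleTopology U) (y : U.left) :
    ∃ (V : U.left.Opens) (W : X.Etale) (π : W ⟶ subEt U V), y ∈ V ∧ IsAffineOpen V ∧ IsAffine W.left ∧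
      Surjective π.left ∧ R (π ≫ subι U V) := by
  have hu : (⋃ i : Σ Z : X.Etale, {g : Z ⟶ U // R g}, Set.range i.2.1.left) = Set.univ :=
    (Scheme.ofArrows_mem_smallEtaleTopology_iff fun i : Σ Z : X.Etale, {g : Z ⟶ U // R g} => i.2.1).1
      (X.smallEtaleTopology.superset_covering (fun Z g hg =>
        Sieve.ofArrows_mk _ (fun i : Σ Z : X.Etale, {g : Z ⟶ U // R g} => i.2.1) ⟨Z, g, hg⟩) hR)
  obtain ⟨⟨Z, g, hg⟩, z, hz⟩ := Set.mem_iUnion.1 (hu.ge (Set.mem_univ y))
  obtain ⟨V₀, hV₀, hyV₀, -⟩ := exists_isAffineOpen_mem_and_subset (X := U.left) (x := y) (U := ⊤) trivial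
  obtain ⟨Z₀, hZ₀, hzZ₀, hZV⟩ := exists_isAffineOpen_mem_and_subset (X := Z.left) (x := z) (U := g.left ⁻¹ᵁ V₀)
    (show g.left z ∈ V₀ from hz.symm ▸ hyV₀)
  haveI := etale_left g
  let I : U.left.Opens := ⟨g.left '' (Z₀ : Set Z.left), g.left.isOpenMap _ Z₀.isOpen⟩
  obtain ⟨f, hfI, hyf⟩ := hV₀.exists_basicOpen_le (V := I) ⟨y, ⟨z, hzZ₀, hz⟩⟩ hyV₀
  let W₀ := Z.left.basicOpen ((g.left.appLE V₀ Z₀ hZV).hom f)
  have hW : W₀ = Z₀ ⊓ g.left ⁻¹ᵁ U.left.basicOpen f := Scheme.basicOpen_appLE g.left Z₀ V₀ hZV f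
  have hle : W₀ ≤ g.left ⁻¹ᵁ U.left.basicOpen f := hW.le.trans inf_le_right
  let π : subEt Z W₀ ⟶ subEt U (U.left.basicOpen f) := MorphismProperty.Over.homMk
    (g.left.resLE (U.left.basicOpen f) W₀ hle) (by
      show g.left.resLE _ _ hle ≫ (U.left.basicOpen f).ι ≫ U.hom = W₀.ι ≫ Z.hom
      rw [← Category.assoc, Scheme.Hom.resLE_comp_ι, Category.assoc]
      exact congrArg (W₀.ι ≫ ·) (MorphismProperty.Over.w g))
  have hπ : π ≫ subι U (U.left.basicOpen f) = subι Z W₀ ≫ g :=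
    MorphismProperty.Over.Hom.ext (g.left.resLE_comp_ι hle)
  refine ⟨U.left.basicOpen f, subEt Z W₀, π, hyf, hV₀.basicOpen f, hZ₀.basicOpen _, ⟨?_⟩,
    hπ ▸ R.downward_closed hg _⟩
  rintro ⟨y', hy'⟩
  obtain ⟨z', hz', rfl⟩ := hfI hy'
  refine ⟨⟨z', hW.ge ⟨hz', hy'⟩⟩, Subtype.ext ?_⟩
  exact congrArg (fun t : W₀.toScheme ⟶ U.left => t ⟨z', hW.ge ⟨hz', hy'⟩⟩) (g.left.resLE_comp_ι hle)

variable [F.IsQuasicoherent]

theorem eq_of_cover {U : X.Etale} {R : Sieve U} (hR : R ∈ X.smallEtaleTopology U) {s t : sec F U}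
    (h : ∀ (Z : X.Etale) (g : Z ⟶ U), R g → rs F g s = rs F g t) : s = t := by
  choose V W π hy hV hW hπ hRπ using fun y : U.left => exists_chart hR y
  let Sh : TopCat.Sheaf AddCommGrpCat.{u} U.left.toTopCat := (QCohLib.toAbF U.left).obj (pbM F U)
  refine TopCat.Sheaf.eq_of_locally_eq' Sh V ⊤ (fun y => homOfLE le_top)
    (fun y _ => Opens.mem_iSup.2 ⟨y, hy y⟩) _ _ fun y => ?_
  refine (bijective_secV F U (V y)).1 ?_
  haveI := hW y; haveI := hπ y
  haveI : IsAffine (subEt U (V y)).left := hV y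
  refine (qcMods F).injective_r (π y) ?_
  show rs F (π y) (secV F U (V y) ((pbM F U).presheaf.map (homOfLE le_top).op s)) =
    rs F (π y) (secV F U (V y) ((pbM F U).presheaf.map (homOfLE le_top).op t))
  rw [secV_top, secV_top, rs_rs', rs_rs']
  exact h _ _ (hRπ y)

theorem exists_amalgamation {U : X.Etale} {R : Sieve U} (hR : R ∈ X.smallEtaleTopology U)
    (x : ∀ (Z : X.Etale) (g : Z ⟶ U), R g → sec F Z)
    (hx : ∀ (Z Z' : X.Etale) (g : Z ⟶ U) (hg : R g) (k : Z' ⟶ Z),
      x Z' (k ≫ g) (R.downward_closed hg k) = rs F k (x Z g hg)) :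
    ∃ s, ∀ (Z : X.Etale) (g : Z ⟶ U) (hg : R g), rs F g s = x Z g hg := by
  have xc : ∀ {Z : X.Etale} {g g' : Z ⟶ U} (e : g = g') (hg : R g) (hg' : R g'), x Z g hg = x Z g' hg' := by
    rintro Z g g' rfl hg hg'; rfl
  choose V W π hy hV hW hπ hRπ using fun y : U.left => exists_chart hR y
  have hdesc : ∀ y, ∃ b : sec F (subEt U (V y)), ∀ (Z : X.Etale) (k : Z ⟶ subEt U (V y)) (hk : R (k ≫ subι U (V y))),
      rs F k b = x Z _ hk := fun y => by
    haveI := hW y; haveI := hπ y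
    haveI : IsAffine (subEt U (V y)).left := hV y
    let p := pr (π y) 0 0 ≫ π y
    have hp : R (p ≫ subι U (V y)) := by rw [Category.assoc]; exact R.downward_closed (hRπ y) _
    obtain ⟨b, hb⟩ := (qcMods F).exists_descend (π y) (x _ (p ≫ subι U (V y)) hp) (by
      rw [(qcMods F).dM_apply, Fin.sum_univ_two]
      show ((-1 : ℤ) ^ (0 : ℕ)) • rs F _ _ + ((-1 : ℤ) ^ (1 : ℕ)) • rs F _ _ = 0
      rw [← hx, ← hx, pow_zero, one_smul, pow_one, neg_smul, one_smul, add_neg_eq_zero]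
      refine xc ?_ _ _
      rw [← Category.assoc, ← Category.assoc (g := p)]
      exact congrArg (· ≫ subι U (V y)) ((face_w (π y) 0 0).trans (face_w (π y) 0 1).symm))
    refine ⟨b, fun Z k hk => eq_of_cover F (X.smallEtaleTopology.pullback_stable k (ofArrows_single_mem (π y) (hπ y)))
      fun Z' l hl => ?_⟩
    obtain ⟨_, m, _, ⟨i⟩, hm⟩ := hl
    have hm' : m ≫ p = l ≫ k := by
      have : pr (π y) 0 0 = 𝟙 (W y) := rfl
      simp only [p, this, Category.id_comp]
      exact hm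
    rw [rs_rs', ← hm', ← rs_rs']
    refine (congrArg (rs F m) hb.symm).trans ((hx _ _ (p ≫ subι U (V y)) hp m).symm.trans ?_)
    rw [← hx]
    exact xc (by rw [← Category.assoc, hm', Category.assoc]) _ _
  choose b hb using hdesc
  choose s hs using fun y => (bijective_secV F U (V y)).2 (b y)
  have hagree : ∀ (y : U.left) (T : U.left.Opens) (hT : T ≤ V y) (Z : X.Etale) (g : Z ⟶ subEt U T)
      (hg : R (g ≫ subι U T)),
      rs F g (secV F U T ((pbM F U).presheaf.map (homOfLE hT).op (s y))) = x Z _ hg := fun y T hT Z g hg => by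
    have hg' : R ((g ≫ subHom hT) ≫ subι U (V y)) := by rw [Category.assoc, subHom_ι]; exact hg
    rw [secV_res, hs, rs_rs', hb y Z _ hg']
    exact xc (by rw [Category.assoc, subHom_ι]) _ _
  let Sh : TopCat.Sheaf AddCommGrpCat.{u} U.left.toTopCat := (QCohLib.toAbF U.left).obj (pbM F U)
  obtain ⟨t, ht, -⟩ := TopCat.Sheaf.existsUnique_gluing' Sh V ⊤ (fun y => homOfLE le_top)
    (fun y _ => Opens.mem_iSup.2 ⟨y, hy y⟩) s fun y y' => by
      refine (bijective_secV F U (V y ⊓ V y')).1 ?_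
      refine eq_of_cover F (X.smallEtaleTopology.pullback_stable (subι U (V y ⊓ V y')) hR) fun Z g hg => ?_
      exact (hagree y _ inf_le_left Z g hg).trans (hagree y' _ inf_le_right Z g hg).symm
  refine ⟨t, fun Z g hg => ?_⟩
  have hcov : Sieve.ofArrows (fun y => subEt U (V y)) (fun y => subι U (V y)) ∈ X.smallEtaleTopology U :=
    (Scheme.ofArrows_mem_smallEtaleTopology_iff _).2
      (Set.eq_univ_of_forall fun y => Set.mem_iUnion.2 ⟨y, ⟨y, hy y⟩, rfl⟩)
  refine eq_of_cover F (X.smallEtaleTopology.pullback_stable g hcov) fun Z' l hl => ?_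
  obtain ⟨_, m, _, ⟨y⟩, hm⟩ := hl
  have hR' : R (m ≫ subι U (V y)) := by rw [hm]; exact R.downward_closed hg l
  rw [rs_rs', ← hm, ← rs_rs', ← secV_top, show (pbM F U).presheaf.map (homOfLE le_top).op t = s y from ht y,
    hs, hb y Z' m hR', ← hx]
  exact xc hm _ _

/-- The presheaf of sections. -/
def qcPre : X.Etaleᵒᵖ ⥤ AddCommGrpCat.{u + 1} where
  obj U := AddCommGrpCat.of (ULift.{u + 1} (sec F U.unop))
  map g := AddCommGrpCat.ofHom (AddMonoidHom.mk' (fun t => ULift.up (rs F g.unop t.down))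
    fun a b => ULift.ext _ _ (map_add (rs F g.unop) a.down b.down))
  map_id U := ConcreteCategory.hom_ext _ _ fun t => ULift.ext _ _ (rs_id' F t.down)
  map_comp g h := ConcreteCategory.hom_ext _ _ fun t => ULift.ext _ _ (rs_rs' F g.unop h.unop t.down).symm

theorem isSheaf_qcPre : Presheaf.IsSheaf X.smallEtaleTopology (qcPre F) := by
  apply Presheaf.isSheaf_of_isSheaf_comp X.smallEtaleTopology (qcPre F) (forget AddCommGrpCat.{u + 1})
  rw [isSheaf_iff_isSheaf_of_type]
  intro U R hR x hx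
  have hc := (Presieve.compatible_iff_sieveCompatible x).1 hx
  obtain ⟨s, hs⟩ := exists_amalgamation F hR (fun Z g hg => (x g hg).down) fun Z Z' g hg k =>
    congrArg ULift.down (hc g k hg)
  refine ⟨ULift.up s, fun Z g hg => ULift.ext _ _ (hs Z g hg), fun t ht => ULift.ext _ _ ?_⟩
  exact eq_of_cover F hR fun Z g hg => (congrArg ULift.down (ht g hg)).trans (hs Z g hg).symm

theorem exists_isAssoc : ∃ G : EtCoh.Ab X, EtAssoc.IsAssoc F G :=
  ⟨⟨qcPre F, isSheaf_qcPre F⟩, fun U => AddEquiv.refl _, fun _ _ _ _ => rfl⟩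

end EtZarLib
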