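import Groth.Prelude.Def_EtZar
import Groth.Prelude.Def_Coh
import Groth.Agent.H90Lib.ZarCech
import Groth.Agent.CohLib.ExtInjective
import Mathlib.Topology.Sheaves.Flasque

/-!
# Flasque sheaves with values one universe up, and the comparison of cohomology
-/

set_option autoImplicit false
set_option linter.unusedSectionVars false
set_option linter.style.haveILetI false
set_option backward.isDefEq.respectTransparency false
set_option backward.isDefEq.respectTransparency.types false
set_option maxHeartbeats 1000000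

universe u

open CategoryTheory CategoryTheory.Limits CategoryTheory.Abelian AlgebraicGeometry Opposite TopologicalSpace

noncomputable section

namespace EtZarLib

variable {X : Scheme.{u}}

theorem wEqualsLocallyBijective (X : Scheme.{u}) :
    (Opens.grothendieckTopology X).WEqualsLocallyBijective AddCommGrpCat.{u + 1} :=
  GrothendieckTopology.WEqualsLocallyBijective.ofEssentiallySmall (Opens.grothendieckTopology X)

/-- All restriction maps are surjective. -/
def Flasque (G : EtZar.Ab X) : Prop :=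
  ∀ {V U : X.Opens} (h : V ≤ U), Function.Surjective (G.obj.map (homOfLE h).op)

abbrev resG (G : EtZar.Ab X) {V U : X.Opens} (h : V ≤ U) : ToType (G.obj.obj (op U)) →+ ToType (G.obj.obj (op V)) :=
  (G.obj.map (homOfLE h).op).hom

theorem resG_resG (G : EtZar.Ab X) {W V U : X.Opens} (h : V ≤ U) (h' : W ≤ V) (s : ToType (G.obj.obj (op U))) :
    resG G h' (resG G h s) = resG G (h'.trans h) s := by
  show (G.obj.map (homOfLE h).op ≫ G.obj.map (homOfLE h').op).hom s = _
  rw [← Functor.map_comp]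
  rfl

theorem resG_refl (G : EtZar.Ab X) {U : X.Opens} (h : U ≤ U) (s : ToType (G.obj.obj (op U))) : resG G h s = s := by
  show (G.obj.map (𝟙 (op U))).hom s = s
  rw [CategoryTheory.Functor.map_id]
  rfl

theorem app_resG {G G' : EtZar.Ab X} (g : G ⟶ G') {V U : X.Opens} (h : V ≤ U) (s : ToType (G.obj.obj (op U))) :
    g.hom.app (op V) (resG G h s) = resG G' h (g.hom.app (op U) s) :=
  NatTrans.naturality_apply g.hom (homOfLE h).op s

theorem surjective_app {S : ShortComplex (EtZar.Ab X)} (hS : S.ShortExact) (h1 : Flasque S.X₁) (U : X.Opens) :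
    Function.Surjective (S.g.hom.app (op U)) := fun s => by
  let E := Σ V : X.Opens, {t : ToType (S.X₂.obj.obj (op V)) // ∃ h : V ≤ U, S.g.hom.app (op V) t = resG S.X₃ h s}
  obtain ⟨Γ, hcons, hmax⟩ := H90Lib.exists_maximal_clique (fun p q : E =>
    resG S.X₂ (inf_le_left : p.1 ⊓ q.1 ≤ p.1) p.2.1 = resG S.X₂ (inf_le_right : p.1 ⊓ q.1 ≤ q.1) q.2.1)
  let f : Γ → X.Opens := fun p => p.1.1
  let T : TopCat.Sheaf AddCommGrpCat.{u + 1} X.toTopCat := S.X₂
  obtain ⟨t, ht, -⟩ := TopCat.Sheaf.existsUnique_gluing' T f (iSup f) (fun p => homOfLE (le_iSup f p))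
    le_rfl (fun p => p.1.2.1) fun p q => hcons p.1 p.2 q.1 q.2
  have hle : iSup f ≤ U := iSup_le fun p => p.1.2.2.1
  have hgt : S.g.hom.app (op (iSup f)) t = resG S.X₃ hle s := by
    let T₃ : TopCat.Sheaf AddCommGrpCat.{u + 1} X.toTopCat := S.X₃
    refine TopCat.Sheaf.eq_of_locally_eq' T₃ f (iSup f) (fun p => homOfLE (le_iSup f p)) le_rfl _ _ fun p => ?_
    show resG S.X₃ (le_iSup f p) _ = resG S.X₃ (le_iSup f p) _
    rw [← app_resG, resG_resG, show resG S.X₂ (le_iSup f p) t = p.1.2.1 from ht p]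
    exact p.1.2.2.2
  have hU : U ≤ iSup f := by
    intro x hx
    haveI := hS.epi_g
    obtain ⟨W, i, ⟨t₁, ht₁⟩, hxW⟩ := (haveI := wEqualsLocallyBijective X; (Sheaf.isLocallySurjective_iff_epi' (A := AddCommGrpCat.{u + 1}) S.g).2 hS.epi_g).1 s x hx
    have hd : S.g.hom.app (op (iSup f ⊓ W)) (resG S.X₂ inf_le_left t - resG S.X₂ inf_le_right t₁) = 0 := by
      rw [map_sub, app_resG, app_resG, hgt, resG_resG,
        show S.g.hom.app (op W) t₁ = resG S.X₃ (leOfHom i) s from ht₁, resG_resG, sub_self]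
    haveI := hS.mono_f
    obtain ⟨a, ha⟩ : ∃ a, S.f.hom.app (op (iSup f ⊓ W)) a = resG S.X₂ inf_le_left t - resG S.X₂ inf_le_right t₁ := by
      haveI : PreservesFiniteLimits (sheafToPresheaf (Opens.grothendieckTopology X) AddCommGrpCat.{u + 1} ⋙
          (evaluation _ _).obj (op (iSup f ⊓ W))) := comp_preservesFiniteLimits _ _
      haveI : (sheafToPresheaf (Opens.grothendieckTopology X) AddCommGrpCat.{u + 1} ⋙
          (evaluation _ _).obj (op (iSup f ⊓ W))).Additive := { }
      have h := (((Functor.preservesFiniteLimits_tfae (sheafToPresheaf (Opens.grothendieckTopology X) AddCommGrpCat.{u + 1} ⋙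
          (evaluation _ _).obj (op (iSup f ⊓ W)))).out 3 0 rfl rfl).1 ‹_› S hS).1
      exact (ShortComplex.ab_exact_iff _).1 h _ hd
    obtain ⟨a', rfl⟩ := h1 (inf_le_right : iSup f ⊓ W ≤ W) a
    let t₂ := t₁ + S.f.hom.app (op W) a'
    have hagree : resG S.X₂ (inf_le_left : iSup f ⊓ W ≤ iSup f) t = resG S.X₂ inf_le_right t₂ := by
      rw [map_add, ← app_resG, ha, add_sub_cancel]
    have hmem : (⟨W, t₂, leOfHom i, by
        rw [map_add, show S.g.hom.app (op W) t₁ = resG S.X₃ (leOfHom i) s from ht₁,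
          show S.g.hom.app (op W) (S.f.hom.app (op W) a') = 0 from
            congrArg (fun m : S.X₁ ⟶ S.X₃ => m.hom.app (op W) a') S.zero, add_zero]⟩ : E) ∈ Γ := by
      refine hmax _ (fun p hp => ?_) (fun p hp => ?_) rfl
      · show resG S.X₂ inf_le_left p.2.1 = resG S.X₂ inf_le_right t₂
        have h := congrArg (resG S.X₂ (inf_le_inf_right W (le_iSup f ⟨p, hp⟩) : p.1 ⊓ W ≤ iSup f ⊓ W)) hagree
        rw [resG_resG, resG_resG] at h
        refine Eq.trans ?_ h
        rw [← show resG S.X₂ (le_iSup f ⟨p, hp⟩) t = p.2.1 from ht ⟨p, hp⟩, resG_resG]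
      · show resG S.X₂ inf_le_left t₂ = resG S.X₂ inf_le_right p.2.1
        have h := congrArg (resG S.X₂ (le_inf (inf_le_right.trans (le_iSup f ⟨p, hp⟩)) inf_le_left : W ⊓ p.1 ≤ iSup f ⊓ W)) hagree
        rw [resG_resG, resG_resG] at h
        refine h.symm.trans ?_
        rw [← show resG S.X₂ (le_iSup f ⟨p, hp⟩) t = p.2.1 from ht ⟨p, hp⟩, resG_resG]
    exact le_iSup f ⟨_, hmem⟩ hxW
  refine ⟨resG S.X₂ hU t, ?_⟩
  rw [app_resG, hgt, resG_resG, resG_refl]

theorem Flasque.quotient {S : ShortComplex (EtZar.Ab X)} (hS : S.ShortExact) (h1 : Flasque S.X₁) (h2 : Flasque S.X₂) :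
    Flasque S.X₃ := fun {V U} h s => by
  obtain ⟨t, rfl⟩ := surjective_app hS h1 V s
  obtain ⟨t', rfl⟩ := h2 h t
  exact ⟨S.g.hom.app (op U) t', (app_resG S.g h t').symm⟩

theorem flasque_injective (I : EtZar.Ab X) [Injective I] : Flasque I := fun {V U} h x => by
  let J := Opens.grothendieckTopology X
  haveI : Injective I.obj := Injective.injective_of_adjoint (sheafificationAdjunction J AddCommGrpCat.{u + 1}) I
  let adj := AddCommGrpCat.adj.{u + 1}.whiskerRight X.Opensᵒᵖ
  let L := (Functor.whiskeringRight X.Opensᵒᵖ _ _).obj AddCommGrpCat.free.{u + 1}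
  haveI : Mono (L.map (uliftYoneda.{u + 1}.map (homOfLE h))) := by
    haveI : ∀ W, Mono ((uliftYoneda.{u + 1}.map (homOfLE h)).app W) := fun W => (CategoryTheory.mono_iff_injective _).2
      fun a b _ => ULift.ext _ _ (Subsingleton.elim (α := (unop W ⟶ V)) a.down b.down)
    haveI : ∀ W, Mono ((L.map (uliftYoneda.{u + 1}.map (homOfLE h))).app W) := fun W =>
      AddCommGrpCat.free.{u + 1}.map_mono ((uliftYoneda.{u + 1}.map (homOfLE h)).app W)
    exact NatTrans.mono_of_mono_app _
  let φ := (adj.homEquiv _ I.obj).symm ((uliftYonedaEquiv.{u + 1} (F := I.obj ⋙ forget AddCommGrpCat.{u + 1})).symm x)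
  let k := adj.homEquiv _ _ (Injective.factorThru φ (L.map (uliftYoneda.{u + 1}.map (homOfLE h))))
  have hk : uliftYoneda.{u + 1}.map (homOfLE h) ≫ k = uliftYonedaEquiv.symm x := by
    rw [← Adjunction.homEquiv_naturality_left, Injective.comp_factorThru, Equiv.apply_symm_apply]
    rfl
  refine ⟨uliftYonedaEquiv.{u + 1} (F := I.obj ⋙ forget AddCommGrpCat.{u + 1}) k, ?_⟩
  have h2 := (congrArg (uliftYonedaEquiv.{u + 1} (F := I.obj ⋙ forget AddCommGrpCat.{u + 1})) hk).trans
    (Equiv.apply_symm_apply _ x)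
  refine Eq.trans ?_ h2
  exact uliftYonedaEquiv_naturality.{u + 1} (F := I.obj ⋙ forget AddCommGrpCat.{u + 1}) (X := op U) k (homOfLE h).op

/-- Flasque sheaves are acyclic. -/
theorem subsingleton_H_flasque : ∀ (n : ℕ) (G : EtZar.Ab X), Flasque G → Subsingleton (EtZar.H G (n + 1))
  | 0, G, hG => by
    haveI : Injective (CohLib.injSC G).X₂ := inferInstanceAs (Injective (Injective.under G))
    let Z := (constantSheaf (Opens.grothendieckTopology X) AddCommGrpCat.{u + 1}).obj (AddCommGrpCat.of (ULift.{u + 1} ℤ))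
    let hT : IsTerminal (⊤ : X.Opens) := IsTerminal.ofUniqueHom (fun _ => homOfLE le_top) fun _ _ => Subsingleton.elim _ _
    haveI := CohLib.subsingleton_ext_injective.{u + 1} Z (CohLib.injSC G).X₂ 0
    refine CohLib.subsingleton_ext_one_of_lift (CohLib.injSC_shortExact G) fun s => ?_
    obtain ⟨t, ht⟩ := surjective_app (CohLib.injSC_shortExact G) hG ⊤
      (Sheaf.H.equiv₀ (CohLib.injSC G).X₃ hT (Ext.mk₀ s))
    refine ⟨Ext.addEquiv₀ ((Sheaf.H.equiv₀ (CohLib.injSC G).X₂ hT).symm t), ?_⟩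
    rw [← Sheaf.H.addEquiv₀_map, Sheaf.H.equiv₀_symm_naturality, ht, AddEquiv.symm_apply_apply]
    exact Ext.addEquiv₀.symm.injective (by simp)
  | n + 1, G, hG => by
    haveI : Injective (CohLib.injSC G).X₂ := inferInstanceAs (Injective (Injective.under G))
    let Z := (constantSheaf (Opens.grothendieckTopology X) AddCommGrpCat.{u + 1}).obj (AddCommGrpCat.of (ULift.{u + 1} ℤ))
    haveI := CohLib.subsingleton_ext_injective.{u + 1} Z (CohLib.injSC G).X₂ (n + 1)
    haveI := subsingleton_H_flasque n _ (Flasque.quotient (CohLib.injSC_shortExact G) hG (flasque_injective _))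
    exact CohLib.subsingleton_ext_of_shift (CohLib.injSC_shortExact G)

end EtZarLib
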