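import Groth.Agent.EtZarLib.Assoc
import Groth.Agent.CohCmpLib.PuSec

/-!
# Functoriality of pulled back sections on the étale site
-/

set_option autoImplicit false
set_option linter.unusedSectionVars false
set_option linter.style.haveILetI false
set_option backward.isDefEq.respectTransparency false
set_option backward.isDefEq.respectTransparency.types false
set_option maxHeartbeats 400000

universe u

open CategoryTheory CategoryTheory.Limits AlgebraicGeometry Opposite TopologicalSpace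
open KFlatLib (puSec puSecLE pb)

noncomputable section

namespace EtZarLib

/-- Maps out of a pullback are determined on pulled back sections. -/
theorem hom_ext_puSec {Y Z : Scheme.{u}} (k : Y ⟶ Z) {M : Z.Modules} {N : Y.Modules} {φ ψ : pb k M ⟶ N}
    (h : ∀ (V : Z.Opens) (m : Γ(M, V)), φ.app (k ⁻¹ᵁ V) (puSec k m) = ψ.app (k ⁻¹ᵁ V) (puSec k m)) : φ = ψ := by
  refine ((Scheme.Modules.pullbackPushforwardAdjunction k).homEquiv M N).injective ?_
  rw [Adjunction.homEquiv_unit, Adjunction.homEquiv_unit]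
  refine Scheme.Modules.hom_ext _ _ fun V => AddCommGrpCat.hom_ext (AddMonoidHom.ext fun m => ?_)
  exact h V m

/-- The same, through two pullbacks. -/
theorem hom_ext_puSec₂ {Y Z T : Scheme.{u}} (h : Y ⟶ Z) (g : Z ⟶ T) {P : T.Modules} {N : Y.Modules}
    {φ ψ : pb h (pb g P) ⟶ N}
    (hφ : ∀ (V : T.Opens) (m : Γ(P, V)), φ.app (h ⁻¹ᵁ (g ⁻¹ᵁ V)) (puSec h (puSec g m)) =
      ψ.app (h ⁻¹ᵁ (g ⁻¹ᵁ V)) (puSec h (puSec g m))) : φ = ψ := by
  refine ((Scheme.Modules.pullbackPushforwardAdjunction h).homEquiv _ N).injective ?_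
  refine hom_ext_puSec g fun V m => ?_
  rw [Adjunction.homEquiv_unit, Adjunction.homEquiv_unit]
  exact hφ V m

theorem puSecLE_res {Y Z : Scheme.{u}} (k : Y ⟶ Z) (M : Z.Modules) {U U' : Z.Opens} (i : U' ≤ U) {V : Y.Opens}
    (h : V ≤ k ⁻¹ᵁ U') (m : Γ(M, U)) :
    puSecLE k M h (M.presheaf.map (homOfLE i).op m) = puSecLE k M (h.trans (k.preimage_mono i)) m := by
  rw [KFlatLib.puSecLE_apply, KFlatLib.puSecLE_apply]
  refine (congrArg (((Scheme.Modules.pullback k).obj M).presheaf.map (homOfLE h).op)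
    (QCohLib.app_map ((Scheme.Modules.pullbackPushforwardAdjunction k).unit.app M) (homOfLE i) m)).trans ?_
  exact QCohLib.map_map' _ _ _ _

theorem map_puSecLE {Y Z : Scheme.{u}} (k : Y ⟶ Z) {M M' : Z.Modules} (a : M ⟶ M') {U : Z.Opens} {V : Y.Opens}
    (h : V ≤ k ⁻¹ᵁ U) (m : Γ(M, U)) :
    ((Scheme.Modules.pullback k).map a).app V (puSecLE k M h m) = puSecLE k M' h (a.app U m) := by
  rw [KFlatLib.puSecLE_apply, KFlatLib.puSecLE_apply, ← KFlatLib.puSec_natural]
  exact QCohLib.app_map _ _ _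

theorem puSecLE_self {Y Z : Scheme.{u}} (k : Y ⟶ Z) (M : Z.Modules) {U : Z.Opens} (m : Γ(M, U)) :
    puSecLE k M (le_refl (k ⁻¹ᵁ U)) m = puSec k m := by
  rw [KFlatLib.puSecLE_apply]
  exact congr($(((Scheme.Modules.pullback k).obj M).presheaf.map_id _) (puSec k m))

theorem eqToHom_puSecLE' {Y Z : Scheme.{u}} {f g : Y ⟶ Z} (h : f = g) (M : Z.Modules) {U : Z.Opens} (m : Γ(M, U))
    {V : Y.Opens} (hf : V ≤ f ⁻¹ᵁ U) (hg : V ≤ g ⁻¹ᵁ U) :
    Scheme.Modules.Hom.app (eqToHom (congrArg (fun k => (Scheme.Modules.pullback k).obj M) h)) V (puSecLE f M hf m) =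
      puSecLE g M hg m := by
  subst h
  rfl

variable {X : Scheme.{u}} (F : X.Modules)

theorem pre_le {U U' : X.Etale} (g : U' ⟶ U) (W : X.Opens) : g.left ⁻¹ᵁ (U.hom ⁻¹ᵁ W) = U'.hom ⁻¹ᵁ W := by
  rw [← Scheme.Hom.comp_preimage, Over.w g.hom]

theorem step2a_puSecLE {U U' : X.Etale} (g : U' ⟶ U) {W : X.Opens} (m : Γ(F, W)) {V : U.left.Opens}
    (hV : V ≤ U.hom ⁻¹ᵁ W) {V' : U'.left.Opens} (hV' : V' ≤ g.left ⁻¹ᵁ V) :
    (EtAssoc.step2a F g).app V' (puSecLE g.left (pbM F U) hV' (puSecLE U.hom F hV m)) =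
      puSecLE U'.hom F (hV'.trans ((g.left.preimage_mono hV).trans (pre_le g W).le)) m := by
  rw [EtAssoc.step2a, Scheme.Modules.Hom.comp_app]
  show Scheme.Modules.Hom.app (eqToHom _) V' (((Scheme.Modules.pullbackComp g.left U.hom).hom.app F).app V'
    (puSecLE g.left _ hV' (puSecLE U.hom F hV m))) = _
  refine (congrArg (fun t => Scheme.Modules.Hom.app (eqToHom _) V' t)
    (CohCmpLib.pullbackComp_puSecLE g.left U.hom F m hV hV')).trans ?_
  exact eqToHom_puSecLE' (Over.w g.hom) F m _ _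

/-- Restriction of local sections. -/
def rsL {U U' : X.Etale} (g : U' ⟶ U) {V : U.left.Opens} {V' : U'.left.Opens} (h : V' ≤ g.left ⁻¹ᵁ V) :
    Γ(pbM F U, V) →+ Γ(pbM F U', V') :=
  (Scheme.Modules.Hom.app (EtAssoc.step2a F g) V').hom.comp (puSecLE g.left (pbM F U) h)

theorem rsL_apply {U U' : X.Etale} (g : U' ⟶ U) {V : U.left.Opens} {V' : U'.left.Opens} (h : V' ≤ g.left ⁻¹ᵁ V)
    (m : Γ(pbM F U, V)) : rsL F g h m = (EtAssoc.step2a F g).app V' (puSecLE g.left (pbM F U) h m) := rfl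

theorem rsL_top {U U' : X.Etale} (g : U' ⟶ U) (m : sec F U) :
    rsL F g (le_top : ⊤ ≤ g.left ⁻¹ᵁ ⊤) m = rs F g m := rfl

theorem res_rsL {U U' : X.Etale} (g : U' ⟶ U) {V : U.left.Opens} {V' W' : U'.left.Opens} (h : V' ≤ g.left ⁻¹ᵁ V)
    (i : W' ≤ V') (m : Γ(pbM F U, V)) :
    (pbM F U').presheaf.map (homOfLE i).op (rsL F g h m) = rsL F g (i.trans h) m := by
  rw [rsL_apply, rsL_apply, ← QCohLib.app_map, KFlatLib.puSecLE_apply, KFlatLib.puSecLE_apply]
  exact congrArg _ (QCohLib.map_map' _ _ _ _)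

theorem rsL_res {U U' : X.Etale} (g : U' ⟶ U) {V W : U.left.Opens} {V' : U'.left.Opens} (i : W ≤ V)
    (h : V' ≤ g.left ⁻¹ᵁ W) (m : Γ(pbM F U, V)) :
    rsL F g h ((pbM F U).presheaf.map (homOfLE i).op m) = rsL F g (h.trans (g.left.preimage_mono i)) m := by
  rw [rsL_apply, rsL_apply, puSecLE_res]

theorem rsL_rsL {U U' U'' : X.Etale} (g : U' ⟶ U) (h : U'' ⟶ U') {V : U.left.Opens} {V' : U'.left.Opens}
    {V'' : U''.left.Opens} (hg : V' ≤ g.left ⁻¹ᵁ V) (hh : V'' ≤ h.left ⁻¹ᵁ V') (m : Γ(pbM F U, V)) :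
    rsL F h hh (rsL F g hg m) = rsL F (h ≫ g) (hh.trans (h.left.preimage_mono hg)) m := by
  let φ : pb h.left (pb g.left (pbM F U)) ⟶ pbM F U'' :=
    (Scheme.Modules.pullback h.left).map (EtAssoc.step2a F g) ≫ EtAssoc.step2a F h
  let ψ : pb h.left (pb g.left (pbM F U)) ⟶ pbM F U'' :=
    (Scheme.Modules.pullbackComp h.left g.left).hom.app (pbM F U) ≫ EtAssoc.step2a F (h ≫ g)
  have key : φ = ψ := by
    refine ((Scheme.Modules.pullbackPushforwardAdjunction h.left).homEquiv _ _).injective ?_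
    refine ((Scheme.Modules.pullbackPushforwardAdjunction g.left).homEquiv _ _).injective ?_
    refine hom_ext_puSec U.hom fun W m => ?_
    simp only [Adjunction.homEquiv_unit]
    show (EtAssoc.step2a F h).app _ (((Scheme.Modules.pullback h.left).map (EtAssoc.step2a F g)).app _
        (puSec h.left (puSec g.left (puSec U.hom m)))) =
      (EtAssoc.step2a F (h ≫ g)).app _ (((Scheme.Modules.pullbackComp h.left g.left).hom.app (pbM F U)).app _
        (puSec h.left (puSec g.left (puSec U.hom m))))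
    simp only [← puSecLE_self]
    rw [map_puSecLE, step2a_puSecLE, step2a_puSecLE]
    refine Eq.symm ((congrArg (fun t => (EtAssoc.step2a F (h ≫ g)).app _ t)
      (CohCmpLib.pullbackComp_puSecLE h.left g.left (pbM F U) _ le_rfl le_rfl)).trans ?_)
    exact step2a_puSecLE F (h ≫ g) m le_rfl _
  have h1 := congr(Scheme.Modules.Hom.app $key V'' (puSecLE h.left _ hh (puSecLE g.left (pbM F U) hg m)))
  rw [rsL_apply, rsL_apply, rsL_apply]
  refine Eq.trans ?_ (h1.trans ?_)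
  · exact congrArg (fun t => (EtAssoc.step2a F h).app V'' t) (map_puSecLE h.left (EtAssoc.step2a F g) hh _).symm
  · show (EtAssoc.step2a F (h ≫ g)).app V'' _ = _
    exact congrArg _ (CohCmpLib.pullbackComp_puSecLE h.left g.left (pbM F U) m hg hh)

theorem rsL_id {U : X.Etale} {V V' : U.left.Opens} (h : V' ≤ (𝟙 U : U ⟶ U).left ⁻¹ᵁ V) (i : V' ≤ V)
    (m : Γ(pbM F U, V)) : rsL F (𝟙 U) h m = (pbM F U).presheaf.map (homOfLE i).op m := by
  let φ : pbM F U ⟶ (Scheme.Modules.pushforward (𝟙 U : U ⟶ U).left).obj (pbM F U) :=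
    (Scheme.Modules.pullbackPushforwardAdjunction (𝟙 U : U ⟶ U).left).homEquiv _ _ (EtAssoc.step2a F (𝟙 U))
  have key : ∀ (W : X.Opens) (m : Γ(F, W)), φ.app (U.hom ⁻¹ᵁ W) (puSec U.hom m) = puSec U.hom m := fun W m => by
    simp only [φ, Adjunction.homEquiv_unit]
    show (EtAssoc.step2a F (𝟙 U)).app _ (puSec (𝟙 U : U ⟶ U).left (puSec U.hom m)) = puSec U.hom m
    simp only [← puSecLE_self]
    exact step2a_puSecLE F (𝟙 U) m le_rfl _
  have hall : ∀ (W : U.left.Opens) (z : Γ(pbM F U, W)), φ.app W z = z := by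
    let θ : pbM F U ⟶ (Scheme.Modules.pushforward (𝟙 U : U ⟶ U).left).obj (pbM F U) :=
      (Scheme.Modules.pushforwardId U.left).inv.app (pbM F U)
    have : φ = θ := hom_ext_puSec U.hom fun W m => key W m
    intro W z
    rw [this]
    rfl
  rw [rsL_apply, KFlatLib.puSecLE_apply, QCohLib.app_map]
  have hm : (EtAssoc.step2a F (𝟙 U)).app _ (puSec (𝟙 U : U ⟶ U).left m) = m := by
    have := hall V m
    simp only [φ, Adjunction.homEquiv_unit] at this
    exact this
  rw [hm]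
  rfl

end EtZarLib
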